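import Cfsg.Agent.Schur.TwoCert

/-!
Certificates for the 2-part of the Schur multipliers of `M23` and `M24`.
-/

set_option autoImplicit false
set_option maxRecDepth 20000

namespace CfsgLib.Mathieu.Multiplier

/-- Codes of generators, with their inverses. -/
def m23Gens : List (ℕ × ℕ) := [
  (983958774452431346275486523314276405, 983958774452431346275486523314276405),
  (984508778830219929456605401657510068, 984508778830219929456605401657510068),
  (958004891209514493074417376855349429, 958004891209514493074417376855349429),
  (984481032107449774523896020634634281, 984481032107449774523896020634634281),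
  (984363150101368796103184830841751592, 984363150101368796103184830841751592),
  (962737030784108451051703854020691008, 962737030784108451051703854020691008),
  (984118494548597429619212189062072369, 984118494548597429619212189062072369),
  (984480729568942593718191780328244308, 984508613025877712016248897740997705),
  (958476150121056865107040637793113123, 962261500882714743036127576796977197),
  (975361005044503317948156097066979011, 957176444502242279927662773663700451),
  (964040024627012440317239952875592842, 964040024627012440317239952875592842)]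

/-- The certificate. -/
def m23Cert : CfsgLib.Schur.TwoCert.Cert where
  n := 7
  rules := [
    ([0, 0], []),
    ([0, 1], [1, 0]),
    ([1, 1], []),
    ([0, 2], [2, 0]),
    ([1, 2], [2, 1, 0]),
    ([2, 2], []),
    ([0, 3], [3, 0]),
    ([1, 3], [3, 1, 0]),
    ([2, 3], [3, 2, 0]),
    ([3, 3], []),
    ([0, 4], [4, 0]),
    ([1, 4], [4, 1, 0]),
    ([2, 4], [4, 2]),
    ([3, 4], [4, 3]),
    ([4, 4], []),
    ([0, 5], [5, 0]),
    ([1, 5], [5, 4, 2, 1, 0]),
    ([2, 5], [5, 2]),
    ([3, 5], [5, 4, 3, 0]),
    ([4, 5], [5, 4]),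
    ([5, 5], []),
    ([0, 6], [6, 0]),
    ([1, 6], [6, 4, 3, 1]),
    ([2, 6], [6, 4, 2]),
    ([3, 6], [6, 3]),
    ([4, 6], [6, 4]),
    ([5, 6], [6, 5, 0]),
    ([6, 6], []),
    ([7, 0], [4, 7]),
    ([7, 2], [5, 2, 0, 7]),
    ([7, 3], [4, 3, 0, 7]),
    ([7, 4], [0, 7]),
    ([7, 5], [5, 4, 0, 7]),
    ([7, 6], [6, 4, 3, 7]),
    ([8, 0], [0, 8]),
    ([8, 2], [5, 2, 0, 8]),
    ([8, 3], [6, 4, 3, 0, 8]),
    ([8, 4], [4, 8]),
    ([8, 5], [4, 2, 8]),
    ([8, 6], [4, 3, 0, 8]),
    ([9, 0], [0, 9]),
    ([9, 1], [2, 9]),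
    ([9, 2], [4, 2, 1, 9]),
    ([9, 3], [4, 3, 9]),
    ([9, 4], [3, 0, 9]),
    ([9, 6], [6, 3, 0, 9]),
    ([10, 0], [4, 2, 0, 10]),
    ([10, 1], [1, 10]),
    ([10, 2], [5, 4, 2, 0, 10]),
    ([10, 4], [5, 0, 10]),
    ([10, 5], [2, 0, 10])]
  eqs := [
    ([0, 1, 5], [(0, 1, true), (1, 15, true), (0, 16, true), (4, 0, true)], [(1, 16, true), (0, 15, true), (1, 10, true), (2, 3, true), (3, 1, true), (4, 0, true)]),
    ([0, 1, 6], [(0, 1, true), (1, 21, true), (0, 22, true)], [(1, 22, true), (0, 21, true), (1, 10, true), (2, 6, true), (3, 1, true)]),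
    ([0, 2, 6], [(0, 3, true), (1, 21, true), (0, 23, true)], [(1, 23, true), (0, 21, true), (1, 10, true), (2, 3, true)]),
    ([1, 1, 2], [(0, 2, true)], [(1, 4, true), (0, 4, true), (2, 1, true), (1, 2, true), (1, 0, true)]),
    ([1, 1, 5], [(0, 2, true)], [(1, 16, true), (0, 16, true), (4, 10, true), (3, 11, true), (2, 12, true), (1, 14, true), (3, 0, true), (2, 4, true), (1, 5, true), (2, 1, true), (1, 2, true), (1, 0, true)]),
    ([1, 1, 6], [(0, 2, true)], [(1, 22, true), (0, 22, true), (3, 11, true), (2, 13, true), (1, 14, true), (3, 6, true), (2, 7, true), (1, 9, true), (2, 0, true), (1, 2, true)]),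
    ([1, 2, 2], [(0, 4, true), (2, 3, true), (1, 4, true), (0, 5, true), (1, 0, true)], [(1, 5, true)]),
    ([1, 2, 5], [(0, 4, true), (2, 15, true), (1, 16, true), (0, 17, true), (1, 12, true), (2, 5, true), (3, 0, true)], [(1, 17, true), (0, 16, true), (4, 3, true), (3, 4, true), (2, 5, true), (3, 0, true)]),
    ([1, 2, 6], [(0, 4, true), (2, 21, true), (1, 22, true), (0, 23, true), (2, 12, true), (1, 14, true), (1, 8, true), (3, 1, true), (4, 0, true)], [(1, 23, true), (0, 22, true), (3, 11, true), (2, 13, true), (1, 14, true), (3, 3, true), (2, 4, true), (4, 0, true)]),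
    ([1, 3, 5], [(0, 7, true), (2, 15, true), (1, 16, true), (0, 18, true), (3, 10, true), (2, 13, true), (1, 14, true), (2, 3, true), (3, 1, true), (4, 0, true)], [(1, 18, true), (0, 16, true), (4, 10, true), (3, 11, true), (2, 12, true), (1, 14, true), (3, 0, true), (2, 7, true), (1, 8, true), (3, 1, true), (4, 0, true)]),
    ([1, 3, 6], [(0, 7, true), (2, 21, true), (1, 22, true), (0, 24, true), (1, 13, true), (2, 9, true)], [(1, 24, true), (0, 22, true), (3, 7, true), (2, 9, true)]),
    ([1, 5, 5], [(0, 16, true), (4, 15, true), (3, 16, true), (2, 17, true), (1, 19, true), (0, 20, true), (1, 12, true), (0, 14, true), (0, 5, true), (1, 0, true)], [(1, 20, true)]),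
    ([1, 5, 6], [(0, 16, true), (4, 21, true), (3, 22, true), (2, 23, true), (1, 25, true), (0, 26, true), (2, 10, true), (3, 10, true), (2, 14, true), (2, 3, true), (3, 10, true), (2, 12, true), (4, 6, true), (3, 8, true), (5, 0, true)], [(1, 26, true), (0, 22, true), (3, 16, true), (2, 18, true), (1, 19, true), (2, 14, true), (3, 10, true), (2, 13, true), (4, 3, true), (5, 1, true), (6, 0, true)]),
    ([1, 6, 6], [(0, 22, true), (3, 22, true), (2, 24, true), (1, 25, true), (0, 27, true), (1, 13, true), (0, 14, true), (0, 9, true)], [(1, 27, true)]),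
    ([2, 2, 6], [(0, 5, true)], [(1, 23, true), (0, 23, true), (2, 12, true), (1, 14, true), (1, 5, true)]),
    ([2, 5, 6], [(0, 17, true), (1, 23, true), (0, 26, true), (2, 10, true), (3, 3, true)], [(1, 26, true), (0, 23, true), (2, 17, true), (1, 19, true)]),
    ([2, 6, 6], [(0, 23, true), (2, 23, true), (1, 25, true), (0, 27, true), (0, 14, true)], [(1, 27, true)]),
    ([5, 5, 6], [(0, 20, true)], [(1, 26, true), (0, 26, true), (2, 15, true), (1, 20, true), (1, 0, true)]),
    ([7, 2, 2], [(0, 29, true), (3, 29, true), (2, 15, true), (1, 17, true), (0, 20, true), (1, 3, true), (0, 5, true), (0, 0, true)], [(1, 5, true)]),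
    ([7, 2, 3], [(0, 29, true), (3, 30, true), (2, 10, true), (1, 12, true), (3, 6, true), (2, 8, true), (4, 0, true)], [(1, 8, true), (0, 30, true), (3, 29, true), (6, 28, true), (2, 15, true), (1, 18, true), (0, 19, true), (1, 14, true), (2, 0, true), (3, 10, true), (2, 12, true), (1, 13, true)]),
    ([7, 2, 6], [(0, 29, true), (3, 33, true), (2, 21, true), (1, 23, true), (0, 26, true), (2, 10, true), (3, 3, true), (4, 0, true), (3, 12, true), (2, 14, true), (2, 8, true)], [(1, 23, true), (0, 33, true), (3, 31, true), (4, 29, true), (3, 15, true), (2, 18, true), (1, 19, true), (2, 14, true), (3, 0, true)]),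
    ([7, 3, 5], [(0, 30, true), (3, 32, true), (2, 15, true), (1, 18, true), (0, 19, true), (1, 14, true), (2, 0, true), (1, 13, true)], [(1, 18, true), (0, 32, true), (3, 31, true), (4, 30, true), (7, 28, true), (2, 0, true), (1, 14, true), (2, 10, true), (1, 13, true)]),
    ([8, 2, 3], [(0, 35, true), (3, 36, true), (2, 21, true), (1, 23, true), (0, 26, true), (2, 10, true), (3, 3, true), (4, 0, true), (3, 12, true), (2, 14, true), (2, 8, true), (4, 0, true)], [(1, 8, true), (0, 36, true), (4, 35, true), (7, 34, true), (3, 15, true), (2, 18, true), (1, 19, true), (2, 14, true), (3, 0, true), (4, 0, true)]),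
    ([8, 2, 6], [(0, 35, true), (3, 39, true), (2, 10, true), (1, 12, true), (3, 6, true), (2, 8, true), (4, 0, true)], [(1, 23, true), (0, 39, true), (3, 37, true), (4, 35, true), (2, 10, true), (1, 13, true), (0, 14, true), (1, 15, true), (0, 18, true), (3, 0, true)]),
    ([8, 3, 3], [(0, 36, true), (4, 36, true), (3, 21, true), (2, 24, true), (1, 25, true), (0, 27, true), (2, 10, true), (1, 13, true), (0, 14, true), (1, 6, true), (0, 9, true), (0, 0, true)], [(1, 9, true)]),
    ([9, 1, 1], [(0, 41, true), (1, 41, true), (0, 5, true)], [(1, 2, true)]),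
    ([9, 1, 2], [(0, 41, true), (1, 42, true), (0, 12, true), (1, 5, true)], [(1, 4, true), (0, 42, true), (3, 41, true), (4, 40, true), (2, 4, true), (1, 5, true), (2, 0, true)]),
    ([9, 1, 3], [(0, 41, true), (1, 43, true), (0, 12, true), (1, 8, true)], [(1, 7, true), (0, 43, true), (2, 41, true), (3, 40, true)]),
    ([9, 1, 6], [(0, 41, true), (1, 45, true), (0, 23, true), (2, 8, true), (4, 0, true)], [(1, 22, true), (0, 45, true), (3, 44, true), (5, 43, true), (7, 41, true), (2, 6, true), (1, 9, true), (1, 0, true)]),
    ([9, 2, 6], [(0, 42, true), (3, 45, true), (2, 22, true), (1, 23, true), (0, 25, true), (1, 14, true), (1, 12, true), (2, 8, true), (4, 1, true), (5, 6, true), (4, 7, true), (3, 8, true), (2, 9, true), (3, 1, true), (4, 0, true), (4, 0, true)], [(1, 23, true), (0, 45, true), (3, 44, true), (5, 42, true), (2, 6, true), (1, 9, true), (1, 0, true)]),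
    ([10, 0, 0], [(0, 46, true), (3, 46, true), (2, 10, true), (1, 12, true), (0, 14, true), (1, 3, true), (0, 5, true), (0, 0, true)], [(1, 0, true)]),
    ([10, 1, 2], [(0, 47, true), (1, 48, true), (0, 16, true), (4, 10, true), (3, 11, true), (2, 12, true), (1, 14, true), (3, 0, true), (2, 4, true), (1, 5, true), (2, 0, true)], [(1, 4, true), (0, 48, true), (4, 47, true), (5, 46, true), (3, 1, true), (4, 10, true), (3, 11, true), (2, 12, true), (1, 14, true), (3, 0, true), (2, 4, true), (1, 5, true), (2, 0, true)]),
    ([10, 1, 5], [(0, 47, true), (1, 50, true), (0, 4, true), (2, 0, true)], [(1, 16, true), (0, 50, true), (2, 49, true), (4, 48, true), (8, 47, true), (9, 46, true), (1, 15, true), (0, 17, true), (2, 0, true), (1, 17, true), (0, 20, true), (0, 12, true), (1, 5, true), (1, 1, true), (2, 10, true), (1, 11, true), (0, 14, true), (1, 0, true), (0, 4, true), (2, 0, true)])]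
  masks := [1032, 1088, 1024, 3, 23602, 27329, 9, 36872, 2111754, 47369, 2105344, 708641, 44839234, 50356736, 20480, 525320, 33570816, 32769, 1212425, 269279296, 2217514248, 2416477184, 17258288136, 137447665984, 186672193, 36, 1099511631873, 1099511632256, 26388291650368, 17592223813761, 21544, 70368744243218, 914793675480098]
  gauge := [67108864, 0, 75563008, 12582912, 8388608, 0, 0, 0, 0, 0, 0]
  picks := [69, 77, 1107312641, 5, 1077461399, 1073758209, 6, 205177858, 3851335, 201474595, 4, 3719631, 131264, 132941, 147648, 131141, 0, 1073907712, 3870733, 32769, 1074038789, 131917, 0, 0, 201418094, 213184, 0, 218128681]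

/-- Codes of generators, with their inverses. -/
def m24Gens : List (ℕ × ℕ) := [
  (964521454943310788046292029217549988, 964521454943310788046292029217549988),
  (692791675238640024462683487516864736, 692791675238640024462683487516864736),
  (984797507724860678858011944466067497, 984797507724860678858011944466067497),
  (964535666224237909311206888388637344, 964535666224237909311206888388637344),
  (583145386162648613807182226488111808, 583145386162648613807182226488111808),
  (891429068100893967783161577285559468, 891429068100893967783161577285559468),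
  (182183189608344026130548367155648942, 169283469090265753021589407797845358),
  (236290489204431529682219023145086628, 236301737707346552365051233056634548),
  (388639617000141620831632846046452801, 109421830151685034069522894469399557),
  (94940147413288713669072512466132631, 16105643476355630745013736676023655),
  (541877020303752326716824978064556266, 473034728271556637483605808180184772),
  (344253776578101436915373479440732661, 681491912950148405551838254772832364),
  (674129011907319514824201940959408843, 749125911970655977097902740275239283),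
  (27486082630573962981603790222399955, 731712036774284689057114280866159095),
  (682060900420227964341243112637244106, 749132240204239789855401611807571216)]

/-- The certificate. -/
def m24Cert : CfsgLib.Schur.TwoCert.Cert where
  n := 10
  rules := [
    ([0, 0], []),
    ([0, 1], [1, 0]),
    ([1, 1], []),
    ([0, 2], [2, 0]),
    ([1, 2], [2, 1]),
    ([2, 2], []),
    ([0, 3], [3, 0]),
    ([1, 3], [3, 1]),
    ([2, 3], [3, 2]),
    ([3, 3], []),
    ([0, 4], [4, 0]),
    ([1, 4], [4, 1]),
    ([2, 4], [4, 2]),
    ([3, 4], [4, 3]),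
    ([4, 4], []),
    ([0, 5], [5, 4, 2, 1, 0]),
    ([1, 5], [5, 4, 2]),
    ([2, 5], [5, 2]),
    ([3, 5], [5, 4, 3, 2, 1]),
    ([4, 5], [5, 2, 1]),
    ([5, 5], []),
    ([0, 6], [6, 4]),
    ([1, 6], [6, 2, 0]),
    ([2, 6], [6, 4, 1]),
    ([3, 6], [6, 3]),
    ([4, 6], [6, 0]),
    ([5, 6], [6, 5, 2]),
    ([6, 6], [3]),
    ([0, 7], [7, 2, 0]),
    ([1, 7], [7, 4]),
    ([2, 7], [7, 2]),
    ([3, 7], [7, 3]),
    ([4, 7], [7, 1]),
    ([5, 7], [7, 5, 2]),
    ([6, 7], [7, 6, 3, 2, 1, 0]),
    ([7, 7], [2]),
    ([0, 8], [8, 4, 2]),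
    ([1, 8], [8, 0]),
    ([2, 8], [8, 4, 1]),
    ([3, 8], [8, 3, 2]),
    ([4, 8], [8, 2, 0]),
    ([5, 8], [8, 5, 4, 1]),
    ([6, 8], [8, 6, 5]),
    ([7, 8], [8, 7, 4, 3, 0]),
    ([8, 8], [5, 3, 2]),
    ([0, 9], [9, 4]),
    ([1, 9], [9, 4, 1, 0]),
    ([2, 9], [9, 4, 1]),
    ([3, 9], [9, 4, 3, 1]),
    ([4, 9], [9, 4, 2, 1, 0]),
    ([5, 9], [9, 5, 4, 2, 0]),
    ([6, 9], [9, 6, 5, 4, 2, 0]),
    ([7, 9], [9, 7, 4, 0]),
    ([8, 9], [9, 8, 4, 3, 2, 1, 0]),
    ([9, 9], [5, 3, 2, 1]),
    ([10, 3], [8, 7, 6, 0, 10]),
    ([10, 4, 2, 1], [8, 7, 6, 2, 0, 10]),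
    ([10, 6, 2], [8, 6, 5, 4, 3, 2, 1, 10]),
    ([10, 9, 8, 7, 2], [2, 1, 10]),
    ([11, 5, 4, 3, 1, 0], [7, 6, 3, 0, 11]),
    ([11, 8, 7, 6, 4, 1, 0], [9, 8, 7, 4, 3, 2, 0, 11]),
    ([12, 4, 2], [7, 4, 3, 1, 0, 12]),
    ([12, 8, 7, 6, 1, 0], [8, 6, 2, 1, 0, 12]),
    ([13, 9, 8, 7, 2, 1, 0], [8, 6, 5, 3, 2, 1, 13]),
    ([14, 3, 1], [9, 8, 6, 2, 1, 14]),
    ([14, 4, 1], [5, 3, 0, 14]),
    ([14, 7, 5], [8, 6, 4, 0, 14]),
    ([14, 5, 1, 0], [9, 8, 7, 6, 14]),
    ([14, 8, 6, 5, 2], [9, 8, 7, 6, 4, 2, 1, 14])]
  eqs := [
    ([0, 0, 5], [(0, 0, true)], [(1, 15, true), (0, 15, true), (4, 10, true), (3, 11, true), (2, 12, true), (1, 14, true), (3, 3, true), (2, 4, true), (1, 5, true), (2, 1, true), (1, 2, true), (1, 0, true)]),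
    ([0, 0, 6], [(0, 0, true)], [(1, 21, true), (0, 21, true), (1, 14, true)]),
    ([0, 0, 7], [(0, 0, true)], [(1, 28, true), (0, 28, true), (2, 3, true), (1, 5, true), (1, 0, true)]),
    ([0, 0, 8], [(0, 0, true)], [(1, 36, true), (0, 36, true), (2, 12, true), (1, 14, true), (1, 5, true)]),
    ([0, 1, 5], [(0, 1, true), (1, 15, true), (0, 16, true), (2, 12, true), (1, 14, true), (1, 5, true)], [(1, 16, true), (0, 15, true), (4, 10, true), (3, 11, true), (2, 12, true), (1, 14, true), (3, 3, true), (2, 4, true), (1, 5, true)]),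
    ([0, 1, 6], [(0, 1, true), (1, 21, true), (0, 22, true), (2, 10, true), (1, 12, true)], [(1, 22, true), (0, 21, true)]),
    ([0, 1, 9], [(0, 1, true), (1, 45, true), (0, 46, true), (3, 10, true), (2, 11, true), (1, 14, true)], [(1, 46, true), (0, 45, true), (1, 14, true)]),
    ([0, 3, 5], [(0, 6, true), (1, 15, true), (0, 18, true), (4, 11, true), (3, 12, true), (2, 13, true), (1, 14, true), (3, 4, true), (2, 5, true), (2, 2, true)], [(1, 18, true), (0, 15, true), (4, 10, true), (3, 11, true), (2, 12, true), (1, 14, true), (3, 6, true), (2, 7, true), (1, 8, true), (4, 3, true), (3, 4, true), (2, 5, true), (3, 1, true), (2, 2, true)]),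
    ([0, 3, 6], [(0, 6, true), (1, 21, true), (0, 24, true), (1, 13, true)], [(1, 24, true), (0, 21, true)]),
    ([0, 3, 7], [(0, 6, true), (1, 28, true), (0, 31, true)], [(1, 31, true), (0, 28, true), (2, 6, true), (1, 8, true)]),
    ([0, 3, 8], [(0, 6, true), (1, 36, true), (0, 39, true), (2, 12, true), (1, 13, true), (3, 5, true)], [(1, 39, true), (0, 36, true), (2, 8, true), (3, 5, true)]),
    ([0, 5, 5], [(0, 15, true), (4, 15, true), (3, 16, true), (2, 17, true), (1, 19, true), (0, 20, true), (1, 4, true), (0, 5, true), (0, 11, true), (1, 4, true), (2, 11, true), (1, 12, true), (0, 14, true), (1, 4, true), (0, 5, true), (0, 2, true)], [(1, 20, true)]),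
    ([0, 5, 6], [(0, 15, true), (4, 21, true), (3, 22, true), (2, 23, true), (1, 25, true), (0, 26, true), (3, 10, true), (2, 12, true), (4, 1, true), (5, 3, true), (4, 4, true), (3, 5, true), (4, 0, true), (3, 11, true), (2, 14, true)], [(1, 26, true), (0, 21, true), (1, 19, true), (3, 4, true), (2, 5, true)]),
    ([0, 5, 7], [(0, 15, true), (4, 28, true), (3, 29, true), (2, 30, true), (1, 32, true), (0, 33, true), (3, 4, true), (2, 5, true), (2, 11, true), (3, 4, true)], [(1, 33, true), (0, 28, true), (2, 15, true), (1, 17, true), (2, 12, true), (3, 5, true), (4, 3, true), (3, 4, true)]),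
    ([0, 5, 8], [(0, 15, true), (4, 36, true), (3, 37, true), (2, 38, true), (1, 40, true), (0, 41, true), (3, 4, true), (5, 10, true), (4, 11, true), (3, 12, true), (2, 14, true), (4, 1, true), (3, 2, true), (3, 0, true), (2, 12, true), (3, 5, true)], [(1, 41, true), (0, 36, true), (2, 17, true), (1, 19, true), (3, 4, true), (2, 5, true), (2, 11, true), (3, 2, true)]),
    ([0, 5, 9], [(0, 15, true), (4, 45, true), (3, 46, true), (2, 47, true), (1, 49, true), (0, 50, true), (4, 10, true), (3, 12, true), (2, 14, true), (3, 3, true), (2, 5, true), (2, 1, true), (3, 0, true), (2, 11, true), (3, 2, true), (2, 14, true), (3, 10, true), (2, 11, true)], [(1, 50, true), (0, 45, true), (1, 19, true), (3, 11, true), (2, 12, true), (4, 4, true), (3, 5, true)]),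
    ([0, 6, 6], [(0, 21, true), (1, 25, true), (0, 27, true)], [(1, 27, true), (0, 6, true)]),
    ([0, 6, 7], [(0, 21, true), (1, 32, true), (0, 34, true), (5, 1, true), (4, 2, true)], [(1, 34, true), (0, 28, true), (2, 21, true), (1, 23, true), (3, 11, true), (2, 14, true), (2, 7, true), (3, 4, true), (4, 2, true)]),
    ([0, 6, 8], [(0, 21, true), (1, 40, true), (0, 42, true)], [(1, 42, true), (0, 36, true), (2, 23, true), (1, 25, true), (2, 10, true), (3, 1, true), (4, 15, true), (3, 16, true), (2, 19, true), (4, 11, true), (3, 12, true), (5, 4, true), (4, 5, true), (4, 11, true), (3, 14, true), (3, 4, true), (4, 2, true)]),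
    ([0, 6, 9], [(0, 21, true), (1, 49, true), (0, 51, true), (5, 10, true), (4, 12, true), (3, 14, true), (4, 3, true), (3, 5, true), (3, 1, true), (4, 0, true)], [(1, 51, true), (0, 45, true), (1, 25, true), (2, 15, true), (6, 10, true), (5, 11, true), (4, 12, true), (3, 14, true), (5, 3, true), (4, 4, true), (3, 5, true), (4, 0, true)]),
    ([0, 7, 7], [(0, 28, true), (2, 28, true), (1, 30, true), (0, 35, true), (0, 5, true)], [(1, 35, true), (0, 3, true)]),
    ([0, 7, 8], [(0, 28, true), (2, 36, true), (1, 38, true), (0, 43, true), (4, 10, true), (3, 13, true), (2, 14, true), (3, 1, true), (4, 10, true), (3, 11, true), (2, 13, true), (5, 3, true), (4, 4, true)], [(1, 43, true), (0, 36, true), (2, 30, true), (1, 32, true), (2, 4, true), (3, 11, true), (2, 12, true), (4, 7, true), (3, 8, true)]),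
    ([0, 7, 9], [(0, 28, true), (2, 45, true), (1, 47, true), (0, 52, true), (3, 10, true), (2, 14, true), (2, 1, true), (3, 10, true), (2, 11, true)], [(1, 52, true), (0, 45, true), (1, 32, true), (2, 11, true)]),
    ([0, 8, 8], [(0, 36, true), (2, 38, true), (1, 40, true), (0, 44, true), (2, 5, true), (2, 10, true), (1, 13, true), (3, 1, true)], [(1, 44, true), (0, 15, true), (4, 6, true), (3, 7, true), (2, 8, true), (5, 3, true), (4, 4, true), (3, 5, true)]),
    ([0, 8, 9], [(0, 36, true), (2, 47, true), (1, 49, true), (0, 53, true), (6, 10, true), (5, 11, true), (4, 12, true), (3, 13, true), (2, 14, true), (5, 3, true), (4, 4, true), (3, 5, true), (4, 1, true), (3, 2, true), (3, 0, true), (2, 13, true)], [(1, 53, true), (0, 45, true), (1, 40, true), (3, 10, true), (2, 12, true), (4, 6, true), (3, 8, true), (5, 3, true), (4, 5, true), (4, 1, true), (5, 0, true)]),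
    ([1, 6, 6], [(0, 22, true), (2, 21, true), (1, 23, true), (0, 27, true), (0, 13, true), (2, 11, true), (1, 13, true), (0, 14, true)], [(1, 27, true), (0, 7, true)]),
    ([3, 6, 8], [(0, 24, true), (1, 39, true), (0, 42, true)], [(1, 42, true), (0, 39, true), (2, 23, true), (1, 24, true), (2, 13, true), (4, 16, true), (3, 18, true), (2, 19, true), (4, 11, true), (3, 12, true), (5, 7, true), (4, 8, true), (6, 4, true), (5, 5, true), (5, 2, true), (4, 13, true), (3, 14, true)]),
    ([6, 6, 6], [(0, 27, true), (0, 24, true)], [(1, 27, true)]),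
    ([6, 6, 7], [(0, 27, true), (0, 31, true)], [(1, 34, true), (0, 34, true), (5, 21, true), (4, 22, true), (3, 23, true), (2, 24, true), (1, 27, true), (1, 9, true), (2, 4, true), (4, 10, true), (3, 11, true), (2, 12, true), (1, 14, true), (3, 6, true), (2, 7, true), (1, 8, true), (4, 3, true), (3, 4, true), (2, 5, true), (3, 1, true), (2, 2, true), (2, 0, true)]),
    ([6, 6, 8], [(0, 27, true), (0, 39, true)], [(1, 42, true), (0, 42, true), (2, 26, true), (1, 27, true), (1, 18, true), (5, 4, true), (4, 5, true), (4, 16, true), (3, 18, true), (2, 19, true), (1, 20, true), (2, 11, true), (1, 12, true), (3, 7, true), (2, 8, true), (4, 4, true), (3, 5, true), (3, 2, true), (2, 13, true), (1, 14, true)]),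
    ([6, 6, 9], [(0, 27, true), (0, 48, true)], [(1, 51, true), (0, 51, true), (5, 21, true), (4, 23, true), (3, 25, true), (2, 26, true), (1, 27, true), (1, 18, true), (5, 4, true), (4, 5, true), (5, 10, true), (4, 11, true), (3, 13, true), (2, 14, true), (4, 1, true), (3, 2, true), (3, 10, true), (2, 13, true), (4, 15, true), (3, 18, true), (2, 19, true), (1, 20, true), (2, 11, true), (1, 12, true), (3, 7, true), (2, 8, true), (4, 4, true), (3, 5, true), (3, 2, true), (2, 13, true), (1, 14, true), (4, 10, true), (3, 11, true), (2, 12, true), (1, 13, true), (5, 3, true), (4, 4, true), (3, 5, true), (4, 0, true)]),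
    ([6, 7, 8], [(0, 34, true), (5, 36, true), (4, 37, true), (3, 38, true), (2, 39, true), (1, 42, true), (0, 43, true), (4, 21, true), (3, 24, true), (2, 25, true), (3, 6, true), (4, 10, true), (3, 13, true), (5, 15, true), (4, 18, true), (3, 19, true), (5, 11, true), (4, 12, true), (6, 7, true), (5, 8, true), (7, 4, true), (6, 5, true), (6, 2, true), (5, 13, true), (4, 14, true), (7, 6, true), (6, 7, true), (5, 8, true), (4, 9, true), (6, 3, true), (5, 4, true), (4, 5, true), (5, 10, true), (4, 11, true), (6, 1, true), (5, 2, true), (5, 0, true), (4, 14, true)], [(1, 43, true), (0, 42, true), (2, 33, true), (1, 34, true), (6, 15, true), (5, 16, true), (4, 17, true), (3, 18, true), (7, 4, true), (6, 5, true), (6, 11, true), (5, 13, true), (4, 14, true), (5, 4, true), (6, 11, true), (5, 12, true), (4, 13, true), (7, 4, true), (6, 5, true), (6, 2, true), (6, 3, true), (7, 10, true), (6, 12, true), (5, 13, true), (4, 14, true), (6, 6, true), (5, 8, true), (4, 9, true), (5, 0, true)]),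
    ([6, 8, 8], [(0, 42, true), (2, 41, true), (1, 42, true), (0, 44, true), (2, 23, true), (1, 24, true), (0, 26, true), (2, 8, true), (3, 12, true), (2, 13, true), (5, 16, true), (4, 17, true), (3, 18, true), (2, 19, true), (1, 20, true), (2, 11, true), (1, 12, true), (3, 7, true), (2, 8, true), (4, 4, true), (3, 5, true), (3, 2, true), (3, 12, true), (2, 13, true), (1, 14, true), (2, 5, true), (1, 18, true), (5, 11, true), (4, 12, true), (3, 13, true), (2, 14, true), (4, 2, true)], [(1, 44, true)]),
    ([6, 8, 9], [(0, 42, true), (2, 50, true), (1, 51, true), (0, 53, true), (6, 21, true), (5, 22, true), (4, 23, true), (3, 24, true), (2, 25, true), (3, 6, true), (4, 10, true), (3, 13, true), (5, 1, true), (6, 3, true), (5, 4, true), (7, 0, true), (6, 11, true), (5, 12, true), (4, 13, true), (3, 14, true), (5, 16, true), (4, 17, true), (3, 18, true), (7, 4, true), (6, 5, true), (6, 11, true), (5, 13, true), (4, 14, true), (5, 4, true), (6, 11, true), (5, 12, true), (4, 13, true), (7, 4, true), (6, 5, true), (7, 15, true), (6, 16, true), (5, 18, true), (4,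 19, true), (3, 20, true), (4, 11, true), (3, 12, true), (5, 7, true), (4, 8, true), (6, 4, true), (5, 5, true), (5, 2, true), (4, 13, true), (3, 14, true), (4, 12, true), (3, 13, true), (5, 5, true), (6, 10, true), (5, 11, true), (4, 13, true), (3, 14, true), (5, 3, true), (4, 4, true), (6, 0, true)], [(1, 53, true), (0, 51, true), (5, 36, true), (4, 38, true), (3, 40, true), (2, 41, true), (1, 42, true), (3, 20, true), (4, 4, true), (6, 10, true), (5, 11, true), (4, 12, true), (3, 14, true), (5, 1, true), (4, 2, true), (4, 10, true), (3, 12, true), (5, 3, true), (4, 5, true), (4, 10, true), (3, 14, true), (3, 6, true), (4, 3, true), (5, 1, true), (6, 0, true)]),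
    ([7, 8, 9], [(0, 43, true), (4, 45, true), (3, 48, true), (2, 49, true), (1, 52, true), (0, 53, true), (6, 28, true), (5, 29, true), (4, 30, true), (3, 31, true), (2, 32, true), (3, 7, true), (4, 4, true), (5, 11, true), (4, 12, true), (3, 13, true), (6, 4, true), (5, 5, true), (6, 10, true), (5, 11, true), (4, 13, true), (3, 14, true), (5, 0, true), (4, 11, true), (3, 13, true), (5, 4, true), (6, 2, true), (6, 10, true), (5, 12, true), (4, 13, true), (3, 14, true), (5, 6, true), (4, 8, true), (3, 9, true), (4, 1, true), (5, 10, true), (4, 11, true), (3, 12, true)], [(1, 53, true), (0, 52, true), (3, 36, true), (2, 40, true), (1, 43, true), (5, 3, true), (6, 0, true), (5, 12, true), (4, 13, true), (3, 14, true), (4, 5, true), (3, 13, true), (4, 9, true)]),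
    ([8, 8, 9], [(0, 44, true), (2, 47, true), (1, 48, true), (0, 50, true), (4, 10, true), (3, 12, true), (2, 14, true), (3, 6, true), (2, 8, true), (4, 1, true), (5, 10, true), (4, 11, true), (3, 12, true), (2, 13, true), (6, 1, true), (5, 2, true)], [(1, 53, true), (0, 53, true), (6, 36, true), (5, 37, true), (4, 38, true), (3, 39, true), (2, 40, true), (1, 44, true), (3, 5, true), (3, 6, true), (2, 9, true), (2, 3, true), (3, 10, true), (2, 12, true), (4, 1, true), (5, 0, true), (4, 11, true), (3, 12, true), (2, 14, true), (3, 4, true), (2, 5, true), (2, 11, true), (3, 7, true), (4, 4, true), (5, 2, true)]),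
    ([8, 9, 9], [(0, 53, true), (6, 45, true), (5, 46, true), (4, 47, true), (3, 48, true), (2, 49, true), (1, 53, true), (0, 54, true), (3, 37, true), (2, 38, true), (1, 39, true), (0, 41, true), (3, 7, true), (4, 4, true), (5, 11, true), (4, 12, true), (3, 13, true), (2, 14, true), (4, 2, true), (4, 10, true), (3, 12, true), (2, 13, true), (5, 6, true), (4, 8, true), (3, 9, true), (4, 3, true), (3, 5, true), (3, 1, true), (4, 0, true), (3, 11, true), (2, 14, true), (2, 4, true), (3, 2, true), (3, 10, true), (2, 12, true), (4, 6, true), (3, 8, true), (5, 1, true), (6, 10, true), (5, 11, true), (4, 12, true), (3, 13, true), (2, 14, true), (5, 1, true), (4, 2, true), (4, 10, true), (3, 12, true), (2, 13, true), (5, 1, true), (6, 0, true), (5, 11, true), (4, 12, true), (3, 13, true), (2, 14, true)], [(1, 54, true)]),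
    ([10, 3, 3], [(0, 55, true), (4, 55, true), (3, 36, true), (2, 42, true), (1, 43, true), (0, 44, true), (2, 30, true), (1, 31, true), (0, 33, true), (2, 8, true), (3, 5, true), (2, 13, true), (3, 9, true), (3, 21, true), (2, 25, true), (1, 26, true), (4, 10, true), (3, 12, true), (5, 15, true), (4, 17, true), (3, 19, true), (2, 20, true), (3, 4, true), (2, 5, true), (2, 11, true), (3, 4, true), (4, 2, true), (4, 10, true), (3, 12, true), (2, 14, true), (3, 3, true), (2, 5, true), (2, 28, true), (1, 34, true), (0, 35, true), (0, 23, true), (2, 7, true), (3, 4, true), (4, 2, true), (4, 3, true), (3, 5, true), (3, 0, true), (2, 24, true), (1, 25, true), (0, 27, true), (1, 6, true), (0, 9, true), (0, 0, true)], [(1, 9, true)]),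
    ([10, 3, 6, 2], [(0, 55, true), (4, 57, true), (3, 36, true), (2, 42, true), (1, 43, true), (0, 44, true), (2, 30, true), (1, 31, true), (0, 33, true), (2, 8, true), (3, 5, true), (2, 13, true), (3, 9, true), (3, 21, true), (2, 25, true), (1, 26, true), (4, 10, true), (3, 12, true), (5, 15, true), (4, 17, true), (3, 19, true), (2, 20, true), (3, 4, true), (2, 5, true), (2, 11, true), (3, 4, true), (4, 2, true), (4, 10, true), (3, 12, true), (2, 14, true), (3, 3, true), (2, 5, true), (2, 21, true), (1, 27, true), (1, 13, true), (2, 18, true), (1, 19, true), (3, 11, true), (2, 12, true), (4, 7, true), (3, 8, true), (5, 4, true), (4, 5, true), (4, 2, true), (3, 13, true), (2, 14, true), (2, 9, true)], [(1, 24, true), (2, 8, false), (0, 57, true), (7, 55, true), (6, 37, true), (5, 38, true), (4, 39, true), (3, 40, true), (2, 41, true), (1, 42, true), (0, 44, true), (2, 23, true), (1, 24, true), (0, 26, true), (2, 8, true), (3, 12, true), (2, 13, true), (5, 16, true), (4, 17, true), (3, 18, true), (2, 19, true), (1, 20, true), (2, 11, true), (1, 12, true),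 (3, 7, true), (2, 8, true), (4, 4, true), (3, 5, true), (3, 2, true), (3, 12, true), (2, 13, true), (1, 14, true), (2, 5, true), (1, 18, true), (5, 11, true), (4, 12, true), (3, 13, true), (2, 14, true), (4, 2, true), (3, 5, true), (3, 6, true), (2, 9, true), (2, 3, true), (3, 10, true), (2, 12, true), (4, 1, true), (5, 0, true), (4, 29, true), (3, 30, true), (2, 32, true), (1, 33, true), (0, 34, true), (5, 15, true), (4, 16, true), (3, 17, true), (2, 18, true), (6, 4, true), (5, 5, true), (5, 11, true), (4, 13, true), (3, 14, true), (4, 4, true), (5, 11, true), (4, 12, true), (3, 13, true), (6, 4, true), (5, 5, true), (5, 2, true), (5, 3, true), (6, 1, true), (7, 3, true), (6, 4, true), (5, 5, true), (6, 10, true), (5, 11, true), (4, 13, true), (3, 14, true), (5, 21, true), (4, 22, true), (3, 24, true), (2, 26, true), (1, 27, true), (1, 18, true), (5, 4, true), (4, 5, true), (4, 7, true), (3, 9, true), (3, 4, true), (5, 10, true), (4, 11, true), (3, 12, true), (2, 14, true), (4, 0, true)]),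
    ([10, 3, 9, 8, 7, 2], [(0, 55, true), (4, 58, true), (3, 3, true), (4, 1, true)], [(1, 48, true), (4, 37, true), (3, 39, true), (2, 40, true), (4, 6, true), (3, 8, true), (5, 3, true), (4, 5, true), (4, 0, true), (3, 31, true), (4, 8, false), (0, 58, true), (2, 55, true), (1, 37, true), (0, 38, true), (3, 28, true), (2, 29, true), (1, 32, true), (2, 11, true), (3, 4, true), (5, 21, true), (4, 22, true), (3, 23, true), (2, 25, true), (3, 10, true), (4, 1, true), (5, 3, true), (4, 4, true), (6, 0, true), (5, 11, true), (4, 12, true), (3, 14, true)]),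
    ([10, 4, 2, 1, 4, 2, 1], [(0, 56, true), (5, 56, true), (4, 36, true), (3, 38, true), (2, 42, true), (1, 43, true), (0, 44, true), (2, 30, true), (1, 31, true), (0, 33, true), (2, 8, true), (3, 5, true), (2, 13, true), (3, 9, true), (3, 21, true), (2, 25, true), (1, 26, true), (4, 10, true), (3, 12, true), (5, 15, true), (4, 17, true), (3, 19, true), (2, 20, true), (3, 4, true), (2, 5, true), (2, 11, true), (3, 4, true), (4, 2, true), (4, 10, true), (3, 12, true), (2, 14, true), (3, 1, true), (4, 10, true), (3, 11, true), (2, 12, true), (5, 3, true), (4, 4, true), (3, 5, true), (4, 28, true), (3, 29, true), (2, 32, true), (1, 34, true), (0, 35, true), (0, 23, true), (2, 7, true), (3, 4, true), (4, 2, true), (4, 1, true), (5, 10, true), (4, 11, true), (3, 12, true), (2, 13, true), (1, 14, true), (4, 3, true), (3, 4, true), (2, 5, true), (3, 0, true), (2, 22, true), (1, 24, true), (0, 27, true), (0, 9, true), (1, 3, true), (0, 5, true), (0, 0, true)], [(3, 11, true), (2, 12, true), (1, 14, true), (2, 4, true), (1, 5, true), (1, 2, true)]),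
    ([10, 6, 2, 6, 2], [(0, 57, true), (7, 57, true), (6, 37, true), (5, 38, true), (4, 39, true), (3, 40, true), (2, 41, true), (1, 42, true), (0, 44, true), (2, 23, true), (1, 24, true), (0, 26, true), (2, 8, true), (3, 12, true), (2, 13, true), (5, 16, true), (4, 17, true), (3, 18, true), (2, 19, true), (1, 20, true), (2, 11, true), (1, 12, true), (3, 7, true), (2, 8, true), (4, 4, true), (3, 5, true), (3, 2, true), (3, 12, true), (2, 13, true), (1, 14, true), (2, 5, true), (1, 18, true), (5, 11, true), (4, 12, true), (3, 13, true), (2, 14, true), (4, 2, true), (3, 5, true), (3, 6, true), (2, 9, true), (2, 3, true), (3, 10, true), (2, 12, true), (4, 1, true), (5, 0, true), (4, 22, true), (3, 23, true), (2, 25, true), (1, 26, true), (0, 27, true), (0, 18, true), (4, 4, true), (3, 5, true), (4, 10, true), (3, 11, true), (2, 13, true), (1, 14, true), (3, 1, true), (2, 2, true), (2, 3, true), (3, 0, true), (2, 17, true), (1, 18, true), (0, 20, true), (3, 4, true), (2, 5, true), (2, 11, true), (1, 13, true), (0, 14, true), (1, 7, true), (0, 9, true), (0, 4,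 true), (1, 2, true)], [(2, 23, true), (1, 27, true), (1, 13, true), (3, 4, true), (2, 8, false), (3, 7, false), (0, 56, true), (5, 55, true), (4, 36, true), (3, 38, true), (2, 42, true), (1, 43, true), (0, 44, true), (2, 30, true), (1, 31, true), (0, 33, true), (2, 8, true), (3, 5, true), (2, 13, true), (3, 9, true), (3, 21, true), (2, 25, true), (1, 26, true), (4, 10, true), (3, 12, true), (5, 15, true), (4, 17, true), (3, 19, true), (2, 20, true), (3, 4, true), (2, 5, true), (2, 11, true), (3, 4, true), (4, 2, true), (4, 10, true), (3, 12, true), (2, 14, true), (3, 1, true), (4, 10, true), (3, 11, true), (2, 12, true), (5, 3, true), (4, 4, true), (3, 5, true), (4, 28, true), (3, 29, true), (2, 32, true), (1, 34, true), (0, 35, true), (0, 23, true), (2, 7, true), (3, 4, true), (4, 2, true), (4, 1, true), (5, 10, true), (4, 11, true), (3, 12, true), (2, 13, true), (1, 14, true), (4, 3, true), (3, 4, true), (2, 5, true), (3, 0, true), (2, 22, true), (1, 24, true), (0, 27, true), (0, 9, true), (1, 0, true)]),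
    ([10, 6, 2, 9, 8, 7, 2], [(0, 57, true), (7, 58, true), (6, 4, true), (5, 5, true), (5, 2, true)], [(2, 47, true), (1, 51, true), (6, 10, true), (5, 12, true), (4, 14, true), (5, 1, true), (6, 36, true), (5, 37, true), (4, 38, true), (3, 41, true), (2, 42, true), (4, 20, true), (5, 11, true), (4, 14, true), (4, 2, true), (4, 10, true), (5, 3, true), (6, 28, true), (5, 30, true), (4, 32, true), (3, 34, true), (8, 1, true), (7, 2, true), (7, 3, true), (6, 5, true), (6, 3, true), (7, 0, true), (6, 5, true), (5, 2, false), (5, 5, false), (6, 4, false), (5, 14, false), (6, 12, false), (7, 11, false), (6, 4, false), (4, 23, false), (0, 58, true), (2, 57, true), (9, 56, true), (14, 55, true), (1, 37, true), (0, 38, true), (3, 21, true), (2, 22, true), (1, 25, true), (2, 3, true), (3, 0, true), (2, 12, true), (3, 17, true), (2, 19, true), (4, 4, true), (3, 5, true), (3, 11, true), (4, 7, true), (5, 4, true), (6, 2, true), (5, 38, true), (4, 39, true), (3, 40, true), (2, 41, true), (1, 42, true), (0, 44, true), (2, 23, true), (1, 24, true), (0, 26, true), (2, 8,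 true), (3, 12, true), (2, 13, true), (5, 16, true), (4, 17, true), (3, 18, true), (2, 19, true), (1, 20, true), (2, 11, true), (1, 12, true), (3, 7, true), (2, 8, true), (4, 4, true), (3, 5, true), (3, 2, true), (3, 12, true), (2, 13, true), (1, 14, true), (2, 5, true), (1, 18, true), (5, 11, true), (4, 12, true), (3, 13, true), (2, 14, true), (4, 2, true), (3, 5, true), (3, 6, true), (2, 9, true), (2, 3, true), (3, 10, true), (2, 12, true), (4, 1, true), (5, 28, true), (4, 29, true), (3, 30, true), (2, 32, true), (1, 33, true), (0, 34, true), (5, 15, true), (4, 16, true), (3, 17, true), (2, 18, true), (6, 4, true), (5, 5, true), (5, 11, true), (4, 13, true), (3, 14, true), (4, 4, true), (5, 11, true), (4, 12, true), (3, 13, true), (6, 4, true), (5, 5, true), (5, 2, true), (5, 3, true), (6, 1, true), (7, 3, true), (6, 4, true), (5, 5, true), (6, 10, true), (5, 11, true), (4, 13, true), (3, 14, true), (5, 3, true), (4, 4, true), (6, 0, true), (5, 22, true), (4, 23, true), (3, 24, true), (2, 26, true), (1, 27, true), (1, 18, true), (5, 4, true), (4, 5, true),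 (4, 7, true), (3, 9, true), (3, 11, true), (2, 14, true), (2, 2, true), (3, 3, true), (2, 5, true), (2, 0, true), (1, 41, true), (0, 43, true), (4, 15, true), (3, 18, true), (2, 19, true), (4, 11, true), (3, 12, true), (5, 7, true), (4, 8, true), (6, 4, true), (5, 5, true), (5, 2, true), (4, 13, true), (3, 14, true), (6, 10, true), (5, 11, true), (4, 12, true), (3, 13, true), (7, 1, true), (6, 2, true), (6, 28, true), (5, 30, true), (4, 31, true), (3, 32, true), (2, 33, true), (1, 35, true), (1, 17, true), (2, 5, true), (2, 7, true), (3, 4, true), (4, 4, true), (3, 5, true), (4, 21, true), (3, 22, true), (2, 24, true), (1, 26, true), (3, 8, true), (4, 5, true), (4, 10, true), (3, 13, true), (5, 0, true)]),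
    ([10, 9, 8, 7, 2, 9, 8, 7, 2], [(0, 58, true), (2, 58, true), (1, 4, true), (0, 5, true), (0, 2, true)], [(4, 47, true), (3, 52, true), (2, 53, true), (1, 54, true), (4, 37, true), (3, 38, true), (2, 39, true), (1, 41, true), (4, 7, true), (5, 4, true), (6, 11, true), (5, 12, true), (4, 13, true), (3, 14, true), (5, 2, true), (5, 10, true), (4, 12, true), (3, 13, true), (6, 6, true), (5, 8, true), (4, 9, true), (5, 3, true), (4, 5, true), (4, 1, true), (5, 0, true), (4, 29, true), (3, 32, true), (2, 33, true), (5, 11, true), (4, 12, true), (6, 11, true), (5, 12, true), (4, 14, true), (6, 10, true), (5, 11, true), (4, 12, true), (7, 1, true), (6, 2, true), (6, 36, true), (5, 38, true), (4, 40, true), (3, 41, true), (2, 43, true), (1, 44, true), (3, 30, true), (2, 31, true), (1, 33, true), (3, 8, true), (4, 5, true), (3, 13, true), (4, 9, true), (4, 15, true), (3, 19, true), (2, 20, true), (3, 11, true), (2, 12, true), (4, 4, true), (3, 5, true), (3, 2, true), (3, 10, true), (2, 14, true), (2, 1, true), (3, 3, true), (2, 4, true), (4, 0, true), (3, 11, true),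 (2, 12, true), (4, 2, true), (3, 12, true), (2, 14, true), (2, 5, true), (1, 35, true), (1, 5, true)]),
    ([11, 5, 4, 3, 1, 0, 5, 4, 3, 1, 0], [(0, 59, true), (4, 59, true), (3, 28, true), (2, 31, true), (1, 34, true), (0, 35, true), (0, 23, true), (2, 7, true), (3, 4, true), (4, 2, true), (4, 6, true), (3, 8, true), (2, 9, true), (3, 3, true), (2, 5, true), (2, 0, true), (1, 25, true), (0, 27, true), (1, 6, true), (0, 9, true), (0, 0, true)], [(5, 15, true), (4, 16, true), (3, 18, true), (2, 19, true), (1, 20, true), (2, 11, true), (1, 12, true), (3, 7, true), (2, 8, true), (4, 4, true), (3, 5, true), (3, 2, true), (2, 13, true), (1, 14, true), (2, 12, true), (1, 13, true), (3, 5, true), (4, 10, true), (3, 11, true), (2, 13, true), (1, 14, true), (3, 6, true), (2, 7, true), (1, 9, true), (2, 1, true), (1, 2, true), (1, 0, true)]),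
    ([11, 5, 4, 3, 1, 0, 8, 7, 6, 4, 1, 0], [(0, 59, true), (4, 60, true), (3, 45, true), (2, 48, true), (1, 51, true), (0, 52, true), (3, 21, true), (2, 25, true), (3, 10, true), (4, 15, true), (3, 19, true), (5, 11, true), (4, 12, true), (6, 4, true), (5, 5, true), (5, 2, true), (5, 10, true), (4, 14, true), (4, 3, true), (5, 0, true), (4, 12, true), (5, 8, true), (7, 11, true), (6, 12, true), (5, 13, true), (4, 14, true), (6, 37, true), (5, 38, true), (4, 39, true), (3, 41, true), (2, 42, true), (1, 43, true), (5, 21, true), (4, 24, true), (3, 25, true), (4, 6, true), (5, 10, true), (4, 13, true), (6, 15, true), (5, 18, true), (4, 19, true), (6, 11, true), (5, 12, true), (7, 7, true), (6, 8, true), (8, 4, true), (7, 5, true), (7, 2, true), (6, 13, true), (5, 14, true), (8, 15, true), (7, 16, true), (6, 17, true), (5, 18, true), (4, 20, true), (7, 4, true), (6, 5, true), (6, 11, true), (5, 13, true), (4, 14, true), (5, 4, true), (6, 11, true), (5, 12, true), (4, 13, true), (7, 4, true), (6, 5, true), (6, 2, true), (6, 10, true), (5, 13, true), (4, 14, true),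 (5, 1, true), (6, 6, true), (5, 7, true), (4, 9, true), (5, 3, true), (4, 4, true), (6, 10, true), (5, 11, true), (4, 12, true), (7, 1, true), (6, 2, true), (6, 0, true), (5, 30, true), (4, 32, true), (3, 34, true), (2, 35, true), (2, 23, true), (4, 7, true), (5, 4, true), (6, 2, true), (6, 1, true), (7, 3, true), (6, 4, true), (5, 5, true), (6, 10, true), (5, 11, true), (4, 13, true), (3, 14, true), (5, 6, true), (4, 7, true), (3, 9, true), (4, 3, true), (3, 4, true), (5, 0, true)], [(5, 36, true), (4, 37, true), (3, 39, true), (2, 40, true), (1, 41, true), (4, 4, true), (6, 6, true), (5, 7, true), (4, 8, true), (7, 3, true), (6, 4, true), (5, 5, true), (6, 0, true), (5, 11, true), (4, 13, true), (3, 14, true), (4, 4, true), (5, 29, true), (4, 30, true), (3, 31, true), (2, 33, true), (4, 8, true), (5, 5, true), (4, 13, true), (5, 24, true), (4, 25, true), (3, 26, true), (6, 6, true), (5, 8, true), (7, 10, true), (6, 12, true), (5, 13, true), (8, 1, true), (9, 0, true), (9, 0, false), (8, 1, false), (6, 8, false), (7, 6, false), (5, 12, false), (6, 10, false),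 (6, 2, false), (5, 4, false), (5, 14, false), (6, 11, false), (6, 5, false), (7, 4, false), (5, 12, false), (6, 11, false), (4, 19, false), (5, 16, false), (6, 15, false), (0, 60, true), (7, 59, true), (6, 28, true), (5, 30, true), (4, 31, true), (3, 32, true), (2, 35, true), (3, 7, true), (2, 8, true), (4, 4, true), (3, 5, true), (3, 4, true), (5, 21, true), (4, 22, true), (3, 23, true), (2, 24, true), (3, 13, true), (5, 4, true), (7, 10, true), (6, 11, true), (5, 12, true), (4, 13, true), (3, 14, true), (6, 6, true), (5, 7, true), (4, 8, true), (3, 9, true), (5, 0, true)]),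
    ([11, 8, 7, 6, 4, 1, 0, 8, 7, 6, 4, 1, 0], [(0, 60, true), (7, 60, true), (6, 45, true), (5, 47, true), (4, 48, true), (3, 49, true), (2, 52, true), (1, 53, true), (0, 54, true), (3, 37, true), (2, 38, true), (1, 39, true), (0, 41, true), (3, 7, true), (4, 4, true), (5, 11, true), (4, 12, true), (3, 13, true), (2, 14, true), (4, 2, true), (4, 10, true), (3, 12, true), (2, 13, true), (5, 6, true), (4, 8, true), (3, 9, true), (4, 3, true), (3, 5, true), (3, 1, true), (4, 0, true), (3, 29, true), (2, 32, true), (1, 33, true), (4, 11, true), (3, 12, true), (5, 11, true), (4, 12, true), (3, 14, true), (5, 10, true), (4, 11, true), (3, 12, true), (6, 3, true), (5, 4, true), (4, 5, true), (5, 1, true), (4, 2, true), (4, 0, true), (3, 14, true), (4, 11, true), (3, 13, true), (5, 2, true), (4, 13, true), (3, 14, true), (3, 39, true), (2, 41, true), (1, 43, true), (0, 44, true), (2, 30, true), (1, 31, true), (0, 33, true), (2, 8, true), (3, 5, true), (2, 13, true), (3, 9, true), (3, 15, true), (2, 19, true), (1, 20, true), (2, 11, true), (1, 12, true), (3, 4, true),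 (2, 5, true), (2, 2, true), (2, 10, true), (1, 14, true), (1, 1, true), (2, 6, true), (1, 7, true), (3, 3, true), (2, 4, true), (4, 28, true), (3, 29, true), (2, 30, true), (1, 31, true), (0, 35, true), (0, 8, true), (1, 5, true), (0, 13, true), (3, 10, true), (2, 12, true), (1, 13, true), (0, 14, true), (2, 6, true), (1, 8, true), (0, 9, true), (1, 3, true), (0, 5, true), (0, 0, true)], [(6, 36, true), (5, 37, true), (4, 40, true), (3, 42, true), (2, 43, true), (1, 44, true), (3, 30, true), (2, 31, true), (1, 33, true), (3, 8, true), (4, 5, true), (3, 13, true), (4, 9, true), (4, 21, true), (3, 25, true), (2, 26, true), (5, 10, true), (4, 12, true), (6, 15, true), (5, 17, true), (4, 19, true), (3, 20, true), (4, 4, true), (3, 5, true), (3, 11, true), (4, 4, true), (5, 2, true), (5, 3, true), (4, 5, true), (4, 0, true), (4, 10, true), (3, 14, true), (3, 3, true), (4, 28, true), (3, 30, true), (2, 34, true), (1, 35, true), (1, 23, true), (3, 7, true), (4, 4, true), (5, 2, true), (5, 3, true), (4, 5, true), (4, 3, true), (5, 0, true), (4, 23, true), (3, 24,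 true), (2, 25, true), (1, 27, true), (2, 6, true), (1, 9, true), (1, 10, true), (2, 1, true), (3, 10, true), (2, 11, true), (1, 14, true), (2, 1, true), (1, 2, true), (1, 0, true)]),
    ([12, 4, 2, 4, 2], [(0, 61, true), (5, 61, true), (4, 28, true), (3, 29, true), (2, 31, true), (1, 32, true), (0, 35, true), (1, 7, true), (0, 8, true), (2, 11, true), (1, 12, true), (0, 13, true), (3, 4, true), (2, 5, true), (3, 10, true), (2, 11, true), (1, 13, true), (0, 14, true), (2, 6, true), (1, 7, true), (0, 9, true), (1, 1, true), (0, 2, true), (0, 0, true)], [(2, 12, true), (1, 14, true), (1, 5, true)]),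
    ([12, 4, 2, 8, 7, 6, 1, 0], [(0, 61, true), (5, 62, true), (4, 36, true), (3, 37, true), (2, 39, true), (1, 40, true), (0, 43, true), (4, 3, true), (5, 0, true), (4, 8, true), (3, 9, true), (3, 5, true), (3, 10, true), (2, 14, true), (2, 3, true), (3, 21, true), (2, 23, true), (4, 11, true), (3, 14, true), (3, 4, true), (4, 2, true)], [(2, 38, true), (1, 40, true), (3, 10, true), (2, 12, true), (4, 1, true), (5, 28, true), (4, 29, true), (3, 30, true), (2, 32, true), (3, 4, true), (4, 11, true), (3, 12, true), (5, 4, true), (4, 5, true), (5, 21, true), (4, 22, true), (3, 25, true), (4, 3, true), (5, 0, true), (4, 12, true), (5, 4, false), (6, 3, false), (4, 11, false), (5, 10, false), (0, 62, true), (5, 61, true), (4, 28, true), (3, 29, true), (2, 30, true), (1, 34, true), (6, 3, true), (5, 4, true), (4, 5, true), (5, 10, true), (4, 11, true), (3, 13, true), (6, 3, true), (5, 4, true), (7, 0, true), (6, 11, true), (5, 12, true), (4, 13, true), (3, 14, true), (5, 7, true), (4, 8, true), (3, 9, true), (4, 2, true)]),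
    ([14, 3, 1, 7, 5], [(0, 64, true), (5, 66, true), (4, 37, true), (3, 38, true), (2, 42, true), (1, 44, true), (3, 23, true), (2, 24, true), (1, 26, true), (3, 8, true), (4, 12, true), (3, 13, true), (6, 16, true), (5, 17, true), (4, 18, true), (3, 19, true), (2, 20, true), (3, 11, true), (2, 12, true), (4, 7, true), (3, 8, true), (5, 4, true), (4, 5, true), (4, 2, true), (4, 12, true), (3, 13, true), (2, 14, true), (3, 5, true), (2, 13, true), (5, 21, true), (4, 22, true), (3, 24, true), (2, 25, true), (1, 27, true), (2, 6, true), (1, 9, true), (1, 3, true), (2, 0, true), (1, 12, true), (2, 12, true), (1, 14, true)], [(2, 29, true), (1, 31, true), (2, 13, true), (3, 18, true), (2, 19, true), (4, 11, true), (3, 12, true), (5, 7, true), (4, 8, true), (6, 4, true), (5, 5, true), (5, 2, true), (5, 2, false), (4, 7, false), (0, 66, true), (4, 65, true), (7, 64, true), (3, 15, true), (2, 19, true), (4, 11, true), (3, 12, true), (5, 4, true), (4, 5, true), (4, 2, true), (4, 6, true), (5, 0, true), (4, 48, true), (3, 49, true), (2, 50, true), (1, 51, true), (0,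 53, true), (6, 21, true), (5, 22, true), (4, 23, true), (3, 24, true), (2, 25, true), (3, 6, true), (4, 10, true), (3, 13, true), (5, 1, true), (6, 3, true), (5, 4, true), (7, 0, true), (6, 11, true), (5, 12, true), (4, 13, true), (3, 14, true), (5, 16, true), (4, 17, true), (3, 18, true), (7, 4, true), (6, 5, true), (6, 11, true), (5, 13, true), (4, 14, true), (5, 4, true), (6, 11, true), (5, 12, true), (4, 13, true), (7, 4, true), (6, 5, true), (7, 15, true), (6, 16, true), (5, 18, true), (4, 19, true), (3, 20, true), (4, 11, true), (3, 12, true), (5, 7, true), (4, 8, true), (6, 4, true), (5, 5, true), (5, 2, true), (4, 13, true), (3, 14, true), (4, 12, true), (3, 13, true), (5, 5, true), (6, 10, true), (5, 11, true), (4, 13, true), (3, 14, true), (5, 3, true), (4, 4, true), (6, 0, true), (5, 11, true), (4, 12, true), (3, 13, true), (6, 4, true), (5, 5, true), (5, 2, true), (5, 10, true), (4, 13, true), (3, 14, true), (4, 6, true), (3, 9, true), (3, 1, true), (4, 36, true), (3, 37, true), (2, 42, true), (1, 44, true), (3, 23, true), (2, 24, true), (1, 26,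 true), (3, 8, true), (4, 12, true), (3, 13, true), (6, 16, true), (5, 17, true), (4, 18, true), (3, 19, true), (2, 20, true), (3, 11, true), (2, 12, true), (4, 7, true), (3, 8, true), (5, 4, true), (4, 5, true), (4, 2, true), (4, 12, true), (3, 13, true), (2, 14, true), (3, 5, true), (3, 10, true), (2, 13, true), (4, 3, true), (5, 21, true), (4, 23, true), (3, 24, true), (2, 25, true), (1, 27, true), (2, 6, true), (1, 9, true), (1, 10, true), (2, 1, true), (3, 10, true), (2, 11, true), (1, 14, true), (2, 3, true), (1, 4, true), (3, 1, true), (2, 2, true)]),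
    ([14, 3, 1, 5, 1, 0], [(0, 64, true), (5, 67, true), (4, 46, true), (3, 47, true), (2, 51, true), (1, 53, true), (0, 54, true), (3, 37, true), (2, 38, true), (1, 39, true), (0, 41, true), (3, 7, true), (4, 4, true), (5, 11, true), (4, 12, true), (3, 13, true), (2, 14, true), (4, 2, true), (4, 10, true), (3, 12, true), (2, 13, true), (5, 6, true), (4, 8, true), (3, 9, true), (4, 3, true), (3, 5, true), (3, 1, true), (4, 0, true), (3, 22, true), (2, 25, true), (1, 26, true), (4, 3, true), (3, 5, true), (3, 0, true), (2, 20, true), (4, 10, true), (3, 12, true), (2, 14, true), (3, 1, true), (4, 10, true), (3, 11, true), (2, 12, true), (5, 1, true), (4, 2, true), (4, 0, true), (3, 38, true), (2, 40, true), (1, 42, true), (0, 44, true), (2, 23, true), (1, 24, true), (0, 26, true), (2, 8, true), (3, 12, true), (2, 13, true), (5, 16, true), (4, 17, true), (3, 18, true), (2, 19, true), (1, 20, true), (2, 11, true), (1, 12, true), (3, 7, true), (2, 8, true), (4, 4, true), (3, 5, true), (3, 2, true), (3, 12, true), (2, 13, true), (1, 14, true), (2, 5, true), (3,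 10, true), (2, 12, true), (1, 13, true), (4, 1, true), (5, 28, true), (4, 29, true), (3, 30, true), (2, 31, true), (1, 32, true), (0, 34, true), (5, 1, true), (4, 2, true), (4, 6, true), (3, 8, true), (2, 9, true), (3, 3, true), (2, 5, true), (2, 10, true), (3, 3, true), (4, 0, true), (3, 23, true), (2, 25, true), (1, 27, true), (2, 10, true), (1, 13, true), (3, 1, true)], [(2, 16, true), (1, 18, true), (5, 11, true), (4, 12, true), (3, 13, true), (2, 14, true), (4, 4, true), (3, 5, true), (3, 2, true), (3, 2, false), (4, 1, false), (2, 7, false), (3, 6, false), (0, 67, true), (4, 64, true), (3, 51, true), (2, 52, true), (1, 53, true), (0, 54, true), (3, 37, true), (2, 38, true), (1, 39, true), (0, 41, true), (3, 7, true), (4, 4, true), (5, 11, true), (4, 12, true), (3, 13, true), (2, 14, true), (4, 2, true), (4, 10, true), (3, 12, true), (2, 13, true), (5, 6, true), (4, 8, true), (3, 9, true), (4, 3, true), (3, 5, true), (3, 1, true), (4, 0, true), (3, 29, true), (2, 32, true), (1, 33, true), (4, 11, true), (3, 12, true), (5, 11, true), (4, 12, true), (3,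 14, true), (5, 21, true), (4, 22, true), (3, 23, true), (2, 26, true), (4, 12, true), (6, 4, true), (5, 5, true), (6, 10, true), (5, 11, true), (4, 14, true), (5, 15, true), (4, 16, true), (3, 20, true), (4, 12, true), (3, 14, true), (3, 5, true), (4, 10, true), (3, 11, true), (5, 3, true), (4, 4, true), (6, 0, true), (5, 37, true), (4, 38, true), (3, 40, true), (2, 42, true), (1, 43, true), (0, 44, true), (2, 30, true), (1, 31, true), (0, 33, true), (2, 8, true), (3, 5, true), (2, 13, true), (3, 9, true), (3, 21, true), (2, 25, true), (1, 26, true), (4, 10, true), (3, 12, true), (5, 15, true), (4, 17, true), (3, 19, true), (2, 20, true), (3, 4, true), (2, 5, true), (2, 11, true), (3, 4, true), (4, 2, true), (4, 3, true), (3, 5, true), (3, 0, true), (2, 14, true), (3, 21, true), (2, 22, true), (1, 27, true), (3, 10, true), (2, 12, true), (1, 13, true), (4, 3, true), (3, 5, true), (3, 1, true)])]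
  masks := [23614, 16385, 40, 20513, 3098, 5122, 3074, 9610, 8256, 256, 12608, 741396, 46717963, 5905717272, 1511829193731, 774056186513439, 35651648, 4571809938, 1168275788838, 598134361196562, 1073741864, 280515072394, 140742051774466, 1443109053914, 740040044988756, 14698624, 9263540, 16777216, 2178965487, 549824592260, 281475089468859, 1039435248982, 2199117308048, 1129542104819123, 880785854842334, 1550242675699595, 1093876630692524, 30918894611408, 13149712311780, 283406418072680, 31198642098572, 108099310254790752, 110509551472376063, 31694220999304390, 54133630703, 7086723812708091, 32551417770279830, 41607497559, 9848406165667, 36906717817660660456, 4723656905290787]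
  gauge := [11839541207891968, 18031990695526400, 29273397577908224, 6772991627100160, 16343140835262464, 31525197391593472, 0, 0, 0, 0, 0, 0, 0, 0, 0]
  picks := [1852212868417, 33096801, 1852212868440, 1806, 1886, 1802, 79917413775456, 79917413776334, 512, 1236993846651, 33096513, 1888, 1792, 79917413775712, 1852212868419, 60476914602374, 60127994999452, 11995806, 1408660414591969, 60127990214727, 1186281991038947, 60588764732398, 1468530429532888, 1488208083208411, 134217728, 140418901779342, 1627075277228830, 1572415446132105, 484546754626609, 1328439276039314, 1048580, 80879092963110, 1328439281862200, 1283946362333018, 335257679127773, 343809171451585, 1328349317540961, 1343744799583780, 1488208082029295, 546706789166835, 437656222517430, 1329031683713427, 168824930126100, 8115750718198, 0, 140393253187001, 1407941969056162, 1408660344140587, 1329026214344210, 0, 1391600390239244, 0, 0, 0, 0]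

end CfsgLib.Mathieu.Multiplier
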