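import Cfsg.Agent.Mathieu.OutSmall
import Cfsg.Agent.Mathieu.DataClasses

/-!
Kernel-checked facts on the candidate lists for classes of elements of orders two and three.
-/

set_option autoImplicit false

open scoped Pointwise

namespace CfsgLib.Mathieu

open Cfsg CfsgLib.Golay

/-- The tables of a coset of the four-point stabiliser. -/
def coset4 (t₀ : List ℕ) : List (List ℕ) := fixList4F.map (fcomp t₀)

/-- Every candidate with the given number of fixed points is carried to the representative by a
listed element. -/
def conjOK (rep : List ℕ) (ks cands : List (List ℕ)) (f : ℕ) : Bool :=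
  cands.all fun u => !(cntFix (pk u) 1 == f) || ks.any fun k => fcomp k u == fcomp rep k

/-- The candidates for involutions. -/
def invCands : List (List ℕ) := (coset4 pairsTab).filter fun t => cntFix (pk t) 2 == 24

/-- The candidates for elements of order three. -/
def threeCands : List (List ℕ) := (coset4 cycleTab).filter fun t => cntFix (pk t) 3 == 24

theorem inv_facts :
    invCands.all (fun t => cntFix (pk t) 1 == 8 || cntFix (pk t) 1 == 0) = true ∧
    conjOK invFree invFreeConj invCands 0 = true ∧
    conjOK invOctad invOctadConj invCands 8 = true := by decide +kernel

theorem three_facts :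
    threeCands.all (fun t => cntFix (pk t) 1 == 6 || cntFix (pk t) 1 == 0) = true ∧
    conjOK threeFree threeFreeConj threeCands 0 = true ∧
    conjOK threeSix threeSixConj threeCands 6 = true := by decide +kernel

theorem six_facts : (coset4 pairsTab).all (fun t =>
    !(cntFix (pk t) 2 == 6) || !(cntFix (pk t) 3 == 0)) = true := by decide +kernel

theorem data_rep : invFreeConj.all tabInM24 = true ∧ invOctadConj.all tabInM24 = true ∧
    threeFreeConj.all tabInM24 = true ∧ threeSixConj.all tabInM24 = true ∧
    tabInM24 invFree = true ∧ tabInM24 invOctad = true ∧ tabInM24 threeFree = true ∧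
    tabInM24 threeSix = true := by decide +kernel

/-- Checks that a table lies in `M24`, commutes with the free involution and fixes its sextet. -/
def centOK (t : List ℕ) : Bool :=
  tabInM24 t && fcomp t invFree == fcomp invFree t &&
    invFreeSextet.all fun a => invFreeSextet.any fun b => maskImageF (pk t) a == b

theorem centFree_facts : invFreeChain.all (fun l => l.2.1.all centOK) = true ∧
    chainOK invFreeChain = true ∧ chainProd invFreeChain = 7680 ∧
    (fixList4F.filter fun t => fcomp t invFree == fcomp invFree t).length ≤ 16 ∧
    ap (pk invFree) 0 = 1 ∧ ap (pk invFree) 2 = 3 := by decide +kernel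

theorem invOctad_facts : (List.range 24).all (fun i =>
    (ap (pk invOctad) i == i) == invOctadMask.testBit i) = true := by decide +kernel

end CfsgLib.Mathieu
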