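import Cfsg.Agent.Mathieu.OutSmall
import Cfsg.Agent.Mathieu.ClassFacts
import Cfsg.Agent.Golay.Sextet
import Cfsg.Prelude.Def_SporadicCombinatorics
import Cfsg.Agent.Eq.Def_SporadicCombinatorics

/-!
Classes of involutions and of elements of order three in `M24`, the centraliser of a fixed-point-free
involution, and commuting elements of orders two and three.
-/

set_option autoImplicit false

open scoped Pointwise

namespace CfsgLib.Mathieu

open Cfsg CfsgLib.Golay

theorem toTab_mem_coset4 {t₀ : List ℕ} (ht₀ : Rep M24 t₀) {g : Equiv.Perm GolayPt} (hg : g ∈ M24)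
    (h : ∀ i < 4, app t₀ i = p2i (g (i2p i))) : toTab g ∈ coset4 t₀ := by
  obtain ⟨a, ha, rfl⟩ := ht₀
  have hmem : a⁻¹ * g ∈ base7Fix 4 := by
    refine mem_base7Fix.2 ⟨M24.mul_mem (M24.inv_mem ha) hg, fun b hb => ?_⟩
    have hb4 : b < 4 := by
      have : b ∈ [0, 1, 2, 3] := by simpa [base7] using hb
      simp at this; omega
    have e := h b hb4
    rw [app_toTab a b (by omega)] at e
    rw [Equiv.Perm.mul_apply, ← p2i_injective e, Equiv.Perm.coe_inv, Equiv.symm_apply_apply]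
  rw [coset4, fixList4F_eq]
  exact List.mem_map.2 ⟨_, toTab_mem_fixList4 hmem, by rw [fcomp_toTab, mul_inv_cancel_left]⟩

theorem exists_conj_of_conjOK {rep : List ℕ} {ks cands : List (List ℕ)} {f : ℕ}
    (hks : ∀ t ∈ ks, Rep M24 t) (hrep : Rep M24 rep) (hok : conjOK rep ks cands f = true) {g : Equiv.Perm GolayPt}
    (hg : toTab g ∈ cands) (hf : (fixedPts g).card = f) :
    ∃ k ∈ M24, toTab (k * g * k⁻¹) = rep := by
  have h := List.all_eq_true.1 hok _ hg
  simp only [cntFix_toTab, pow_one, hf, beq_self_eq_true, Bool.not_true, Bool.false_or, List.any_eq_true,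
    beq_iff_eq] at h
  obtain ⟨t, ht, e⟩ := h
  obtain ⟨k, hk, rfl⟩ := hks t ht
  refine ⟨k, hk, ?_⟩
  obtain ⟨r, hr, rfl⟩ := hrep
  rw [fcomp_toTab, fcomp_toTab] at e
  rw [toTab_injective e, mul_inv_cancel_right]

theorem exists_moved_outside {g : Equiv.Perm GolayPt} (hg : g ∈ M24) (hne : g ≠ 1)
    (s : Finset GolayPt) (hs : s.card ≤ 3) : ∃ b, b ∉ s ∧ g b ≠ b := by
  by_contra! h
  have hsub : sᶜ ⊆ fixedPts g := fun b hb => mem_fixedPts.2 (h b (Finset.mem_compl.1 hb))
  refine hne (eq_one_of_nine_fixed hg (le_trans ?_ (Finset.card_le_card hsub)))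
  rw [Finset.card_compl, show Fintype.card GolayPt = 24 from rfl]
  omega

theorem rep_pairsTab : Rep M24 pairsTab := rep_of_tabInM24 (by decide +kernel)

theorem rep_cycleTab : Rep M24 cycleTab := rep_of_tabInM24 (by decide +kernel)

theorem pattern_facts : (List.range 4).map (app pairsTab) = [1, 0, 3, 2] ∧
    (List.range 4).map (app cycleTab) = [1, 2, 0, 4] := by decide +kernel

theorem exists_conj_pairs {g : Equiv.Perm GolayPt} (hg : g ∈ M24) {a b : GolayPt}
    (ha : g a ≠ a) (hga : g (g a) = a) (hb : g b ≠ b) (hgb : g (g b) = b)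
    (hba : b ≠ a) (hbga : b ≠ g a) :
    ∃ k ∈ M24, toTab (k * g * k⁻¹) ∈ coset4 pairsTab := by
  have h1 : g b ≠ a := fun e => hbga (by rw [← e, hgb])
  have h2 : g b ≠ g a := fun e => hba (g.injective e)
  obtain ⟨k, hk, hkx⟩ := exists_map_four (x := ![a, g a, b, g b])
    (y := ![i2p 0, i2p 1, i2p 2, i2p 3])
    (by
      intro i j hij
      fin_cases i <;> fin_cases j <;>
        simp [ha, Ne.symm ha, hb, Ne.symm hb, hba, Ne.symm hba, hbga, Ne.symm hbga, h1,
          Ne.symm h1, h2, Ne.symm h2] at hij ⊢)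
    (by decide)
  refine ⟨k, hk, toTab_mem_coset4 rep_pairsTab ((conj_mem_M24_iff hk).2 hg) ?_⟩
  have k0 : k⁻¹ (i2p 0) = a := Equiv.Perm.inv_eq_iff_eq.2 (hkx 0).symm
  have k1 : k⁻¹ (i2p 1) = g a := Equiv.Perm.inv_eq_iff_eq.2 (hkx 1).symm
  have k2 : k⁻¹ (i2p 2) = b := Equiv.Perm.inv_eq_iff_eq.2 (hkx 2).symm
  have k3 : k⁻¹ (i2p 3) = g b := Equiv.Perm.inv_eq_iff_eq.2 (hkx 3).symm
  have e0 : k a = i2p 0 := hkx 0
  have e1 : k (g a) = i2p 1 := hkx 1
  have e2 : k b = i2p 2 := hkx 2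
  have e3 : k (g b) = i2p 3 := hkx 3
  have hp := pattern_facts.1
  simp only [List.range_succ, List.range_zero, List.nil_append, List.map_cons, List.map_nil,
    List.cons_append, List.cons.injEq, and_true] at hp
  intro i hi
  obtain rfl | rfl | rfl | rfl : i = 0 ∨ i = 1 ∨ i = 2 ∨ i = 3 := by omega
  · simp only [Equiv.Perm.mul_apply, k0, e1]; rw [hp.1, p2i_i2p 1 (by norm_num)]
  · simp only [Equiv.Perm.mul_apply, k1, hga, e0]; rw [hp.2.1, p2i_i2p 0 (by norm_num)]
  · simp only [Equiv.Perm.mul_apply, k2, e3]; rw [hp.2.2.1, p2i_i2p 3 (by norm_num)]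
  · simp only [Equiv.Perm.mul_apply, k3, hgb, e2]; rw [hp.2.2.2, p2i_i2p 2 (by norm_num)]

/-- An involution fixes eight points or none, and is conjugate to a representative. -/
theorem exists_conj_involution {g : Equiv.Perm GolayPt} (hg : g ∈ M24) (h2 : orderOf g = 2) :
    ((fixedPts g).card = 0 ∧ ∃ k ∈ M24, toTab (k * g * k⁻¹) = invFree) ∨
    ((fixedPts g).card = 8 ∧ ∃ k ∈ M24, toTab (k * g * k⁻¹) = invOctad) := by
  have hne : g ≠ 1 := fun e => by rw [e, orderOf_one] at h2; norm_num at h2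
  have hsq : g * g = 1 := by rw [← pow_two, ← h2, pow_orderOf_eq_one]
  have hgg : ∀ x, g (g x) = x := fun x => by
    rw [← Equiv.Perm.mul_apply, hsq, Equiv.Perm.one_apply]
  obtain ⟨a, -, ha⟩ := exists_moved_outside hg hne ∅ (by simp)
  obtain ⟨b, hb', hb⟩ := exists_moved_outside hg hne {a, g a}
    (Finset.card_le_two.trans (by norm_num))
  simp only [Finset.mem_insert, Finset.mem_singleton, not_or] at hb'
  obtain ⟨k, hk, hmem⟩ := exists_conj_pairs hg ha (hgg a) hb (hgg b) hb'.1 hb'.2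
  have hc : toTab (k * g * k⁻¹) ∈ invCands := by
    rw [invCands, List.mem_filter, beq_iff_eq]
    exact ⟨hmem, cntFix_of_pow_eq_one (by
      rw [conj_pow, pow_two, hsq, mul_one, mul_inv_cancel])⟩
  have hcount := List.all_eq_true.1 inv_facts.1 _ hc
  simp only [cntFix_toTab, pow_one, card_fixedPts_conj, Bool.or_eq_true, beq_iff_eq] at hcount
  rcases hcount with h8 | h0
  · right
    obtain ⟨k', hk', e⟩ := exists_conj_of_conjOK
      (fun t ht => rep_of_tabInM24 (List.all_eq_true.1 data_rep.2.1 t ht))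
      (rep_of_tabInM24 data_rep.2.2.2.2.2.1) inv_facts.2.2 hc (by rw [card_fixedPts_conj, h8])
    exact ⟨h8, k' * k, M24.mul_mem hk' hk, by
      rw [← e, show k' * k * g * (k' * k)⁻¹ = k' * (k * g * k⁻¹) * k'⁻¹ from by group]⟩
  · left
    obtain ⟨k', hk', e⟩ := exists_conj_of_conjOK
      (fun t ht => rep_of_tabInM24 (List.all_eq_true.1 data_rep.1 t ht))
      (rep_of_tabInM24 data_rep.2.2.2.2.1) inv_facts.2.1 hc (by rw [card_fixedPts_conj, h0])
    exact ⟨h0, k' * k, M24.mul_mem hk' hk, by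
      rw [← e, show k' * k * g * (k' * k)⁻¹ = k' * (k * g * k⁻¹) * k'⁻¹ from by group]⟩

/-- An element of order three fixes six points or none, and is conjugate to a representative. -/
theorem exists_conj_three {g : Equiv.Perm GolayPt} (hg : g ∈ M24) (h3 : orderOf g = 3) :
    ((fixedPts g).card = 0 ∧ ∃ k ∈ M24, toTab (k * g * k⁻¹) = threeFree) ∨
    ((fixedPts g).card = 6 ∧ ∃ k ∈ M24, toTab (k * g * k⁻¹) = threeSix) := by
  have hne : g ≠ 1 := fun e => by rw [e, orderOf_one] at h3; norm_num at h3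
  have hcube : g ^ 3 = 1 := by rw [← h3, pow_orderOf_eq_one]
  have hggg : ∀ x, g (g (g x)) = x := fun x => by
    rw [← Equiv.Perm.mul_apply, ← Equiv.Perm.mul_apply,
      show g * g * g = g ^ 3 by rw [pow_succ, pow_two], hcube, Equiv.Perm.one_apply]
  obtain ⟨a, -, ha⟩ := exists_moved_outside hg hne ∅ (by simp)
  obtain ⟨b, hb', hb⟩ := exists_moved_outside hg hne {a, g a, g (g a)} Finset.card_le_three
  simp only [Finset.mem_insert, Finset.mem_singleton, not_or] at hb'
  have d1 : g (g a) ≠ g a := fun e => ha (g.injective e)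
  have d2 : g (g a) ≠ a := fun e => ha (by
    have := congrArg g e; rw [hggg] at this; exact this.symm)
  have d3 : g b ≠ a := fun e => hb'.2.2 (by rw [← e, hggg])
  have d4 : g b ≠ g a := fun e => hb'.1 (g.injective e)
  have d5 : g b ≠ g (g a) := fun e => hb'.2.1 (g.injective e)
  obtain ⟨k, hk, hkx⟩ := exists_map_five_fun (x := ![a, g a, g (g a), b, g b])
    (y := ![i2p 0, i2p 1, i2p 2, i2p 3, i2p 4])
    (by
      intro i j hij
      fin_cases i <;> fin_cases j <;>
        simp [ha, Ne.symm ha, hb, Ne.symm hb, hb'.1, Ne.symm hb'.1, hb'.2.1, Ne.symm hb'.2.1,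
          hb'.2.2, Ne.symm hb'.2.2, d1, Ne.symm d1, d2, Ne.symm d2, d3, Ne.symm d3, d4,
          Ne.symm d4, d5, Ne.symm d5] at hij ⊢)
    (by decide)
  have k0 : k⁻¹ (i2p 0) = a := Equiv.Perm.inv_eq_iff_eq.2 (hkx 0).symm
  have k1 : k⁻¹ (i2p 1) = g a := Equiv.Perm.inv_eq_iff_eq.2 (hkx 1).symm
  have k2 : k⁻¹ (i2p 2) = g (g a) := Equiv.Perm.inv_eq_iff_eq.2 (hkx 2).symm
  have k3 : k⁻¹ (i2p 3) = b := Equiv.Perm.inv_eq_iff_eq.2 (hkx 3).symm
  have hp := pattern_facts.2
  simp only [List.range_succ, List.range_zero, List.nil_append, List.map_cons, List.map_nil,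
    List.cons_append, List.cons.injEq, and_true] at hp
  have hmem : toTab (k * g * k⁻¹) ∈ coset4 cycleTab := by
    refine toTab_mem_coset4 rep_cycleTab ((conj_mem_M24_iff hk).2 hg) fun i hi => ?_
    obtain rfl | rfl | rfl | rfl : i = 0 ∨ i = 1 ∨ i = 2 ∨ i = 3 := by omega
    · simp only [Equiv.Perm.mul_apply, k0, show k (g a) = i2p 1 from hkx 1]
      rw [hp.1, p2i_i2p 1 (by norm_num)]
    · simp only [Equiv.Perm.mul_apply, k1, show k (g (g a)) = i2p 2 from hkx 2]
      rw [hp.2.1, p2i_i2p 2 (by norm_num)]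
    · simp only [Equiv.Perm.mul_apply, k2, hggg, show k a = i2p 0 from hkx 0]
      rw [hp.2.2.1, p2i_i2p 0 (by norm_num)]
    · simp only [Equiv.Perm.mul_apply, k3, show k (g b) = i2p 4 from hkx 4]
      rw [hp.2.2.2, p2i_i2p 4 (by norm_num)]
  have hc : toTab (k * g * k⁻¹) ∈ threeCands := by
    rw [threeCands, List.mem_filter, beq_iff_eq]
    exact ⟨hmem, cntFix_of_pow_eq_one (by rw [conj_pow, hcube, mul_one, mul_inv_cancel])⟩
  have hcount := List.all_eq_true.1 three_facts.1 _ hc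
  simp only [cntFix_toTab, pow_one, card_fixedPts_conj, Bool.or_eq_true, beq_iff_eq] at hcount
  rcases hcount with h6 | h0
  · right
    obtain ⟨k', hk', e⟩ := exists_conj_of_conjOK
      (fun t ht => rep_of_tabInM24 (List.all_eq_true.1 data_rep.2.2.2.1 t ht))
      (rep_of_tabInM24 data_rep.2.2.2.2.2.2.2) three_facts.2.2 hc (by rw [card_fixedPts_conj, h6])
    exact ⟨h6, k' * k, M24.mul_mem hk' hk, by
      rw [← e, show k' * k * g * (k' * k)⁻¹ = k' * (k * g * k⁻¹) * k'⁻¹ from by group]⟩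
  · left
    obtain ⟨k', hk', e⟩ := exists_conj_of_conjOK
      (fun t ht => rep_of_tabInM24 (List.all_eq_true.1 data_rep.2.2.1 t ht))
      (rep_of_tabInM24 data_rep.2.2.2.2.2.2.1) three_facts.2.1 hc (by rw [card_fixedPts_conj, h0])
    exact ⟨h0, k' * k, M24.mul_mem hk' hk, by
      rw [← e, show k' * k * g * (k' * k)⁻¹ = k' * (k * g * k⁻¹) * k'⁻¹ from by group]⟩

theorem fixedPts_conj (k g : Equiv.Perm GolayPt) :
    fixedPts (k * g * k⁻¹) = k • fixedPts g := by
  ext p
  rw [← Finset.inv_smul_mem_iff, mem_fixedPts, mem_fixedPts]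
  exact conj_fix_iff k g (k⁻¹ p) p (smul_inv_smul k p)

theorem invOctad_fixed {g : Equiv.Perm GolayPt} (h : toTab g = invOctad) :
    fixedPts g ∈ octads := by
  have hm : fixedPts g = ofMask invOctadMask := by
    ext p
    rw [mem_fixedPts, mem_ofMask_iff]
    have h1 := List.all_eq_true.1 invOctad_facts (p2i p) (List.mem_range.2 (p2i_lt p))
    rw [beq_iff_eq, ← h, ap_toTab'] at h1
    rw [← h1, beq_iff_eq]
    exact ⟨fun e => by rw [e], fun e => p2i_injective e⟩
  rw [hm]
  exact ofMask_mem_octads (by decide +kernel) (by decide +kernel)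

theorem fixedPts_mem_octads {g : Equiv.Perm GolayPt} (hg : g ∈ M24) (h2 : orderOf g = 2)
    (h8 : (fixedPts g).card ≠ 0) : fixedPts g ∈ octads := by
  rcases exists_conj_involution hg h2 with ⟨h, -⟩ | ⟨-, k, hk, e⟩
  · exact absurd h h8
  have h := invOctad_fixed e
  rw [fixedPts_conj] at h
  simpa using smul_mem_octads (M24.inv_mem hk) h

theorem conj_of_same_rep {g h : Equiv.Perm GolayPt} {r : List ℕ}
    (hg : ∃ k ∈ M24, toTab (k * g * k⁻¹) = r) (hh : ∃ k ∈ M24, toTab (k * h * k⁻¹) = r) :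
    ∃ k ∈ M24, k * g * k⁻¹ = h := by
  obtain ⟨a, ha, ea⟩ := hg
  obtain ⟨b, hb, eb⟩ := hh
  refine ⟨b⁻¹ * a, M24.mul_mem (M24.inv_mem hb) ha, ?_⟩
  have e := toTab_injective (ea.trans eb.symm)
  calc b⁻¹ * a * g * (b⁻¹ * a)⁻¹ = b⁻¹ * (a * g * a⁻¹) * b := by group
    _ = b⁻¹ * (b * h * b⁻¹) * b := by rw [e]
    _ = h := by group

theorem isConj_of_involution {g h : Equiv.Perm GolayPt} (hg : g ∈ M24) (hh : h ∈ M24)
    (hg2 : orderOf g = 2) (hh2 : orderOf h = 2)
    (hf : (fixedPts g).card = (fixedPts h).card) : ∃ k ∈ M24, k * g * k⁻¹ = h := by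
  rcases exists_conj_involution hg hg2 with ⟨a, ka⟩ | ⟨a, ka⟩ <;>
    rcases exists_conj_involution hh hh2 with ⟨b, kb⟩ | ⟨b, kb⟩
  · exact conj_of_same_rep ka kb
  · omega
  · omega
  · exact conj_of_same_rep ka kb

theorem isConj_of_three {g h : Equiv.Perm GolayPt} (hg : g ∈ M24) (hh : h ∈ M24)
    (hg3 : orderOf g = 3) (hh3 : orderOf h = 3)
    (hf : (fixedPts g).card = (fixedPts h).card) : ∃ k ∈ M24, k * g * k⁻¹ = h := by
  rcases exists_conj_three hg hg3 with ⟨a, ka⟩ | ⟨a, ka⟩ <;>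
    rcases exists_conj_three hh hh3 with ⟨b, kb⟩ | ⟨b, kb⟩
  · exact conj_of_same_rep ka kb
  · omega
  · omega
  · exact conj_of_same_rep ka kb

theorem exists_prime_tab {t : List ℕ} (p : ℕ) (hp : p.Prime) (hin : tabInM24 t = true)
    (hpow : 9 ≤ cntFix (pk t) p) (hne : t ≠ idTab) :
    ∃ g ∈ M24, orderOf g = p ∧ (fixedPts g).card = cntFix (pk t) 1 := by
  obtain ⟨g, hg, rfl⟩ := rep_of_tabInM24 hin
  haveI : Fact p.Prime := ⟨hp⟩
  refine ⟨g, hg, orderOf_eq_prime (eq_one_of_cntFix hg hpow)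
    (fun e => hne (by rw [e, toTab_one])), ?_⟩
  rw [cntFix_toTab, pow_one]

/-- Commuting elements of order three and two have the same kind of fixed points. -/
theorem commute_three_two {x s : Equiv.Perm GolayPt} (hx : x ∈ M24) (hs : s ∈ M24)
    (h3 : orderOf x = 3) (h2 : orderOf s = 2) (hc : Commute x s) :
    ((fixedPts x).card = 6 ∧ (fixedPts s).card = 8) ∨
      ((fixedPts x).card = 0 ∧ (fixedPts s).card = 0) := by
  have hx3 : x ^ 3 = 1 := by rw [← h3, pow_orderOf_eq_one]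
  have hs2 : s ^ 2 = 1 := by rw [← h2, pow_orderOf_eq_one]
  have hperm : ∀ p, x p = p → x (s p) = s p := fun p hp => by
    rw [← Equiv.Perm.mul_apply, hc.eq, Equiv.Perm.mul_apply, hp]
  have hss : ∀ p, s (s p) = p := fun p => by
    rw [← Equiv.Perm.mul_apply, ← pow_two, hs2, Equiv.Perm.one_apply]
  rcases exists_conj_three hx h3 with ⟨hx0, -⟩ | ⟨hx6, -⟩ <;>
    rcases exists_conj_involution hs h2 with ⟨hs0, -⟩ | ⟨hs8, -⟩
  · exact Or.inr ⟨hx0, hs0⟩
  · exfalso
    -- `x` permutes eight points without a fixed point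
    have hfree : ∀ p, x p ≠ p := fun p hp => by
      have := Finset.card_pos.2 ⟨p, mem_fixedPts.2 hp⟩
      omega
    let H := Subgroup.zpowers x
    have hmap : ∀ p ∈ fixedPts s, x p ∈ fixedPts s := fun p hp => by
      rw [mem_fixedPts] at hp ⊢
      rw [← Equiv.Perm.mul_apply, ← hc.eq, Equiv.Perm.mul_apply, hp]
    let f : Equiv.Perm (fixedPts s) := x.subtypePerm fun p => by
      refine ⟨fun hxp => ?_, fun hp => hmap p hp⟩
      have h := hmap _ (hmap _ hxp)
      rwa [← Equiv.Perm.mul_apply, ← Equiv.Perm.mul_apply,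
        show x * x * x = x ^ 3 by rw [pow_succ, pow_two], hx3, Equiv.Perm.one_apply] at h
    haveI : Fact (Nat.Prime 3) := ⟨by norm_num⟩
    have hf3 : f ^ (3 ^ 1) = 1 := by
      ext p
      simp [f, Equiv.Perm.subtypePerm_pow, hx3]
    obtain ⟨p, hp⟩ := Equiv.Perm.exists_fixed_point_of_prime (p := 3) (n := 1)
      (by rw [Fintype.card_coe, hs8]; norm_num) hf3
    exact hfree p.1 (congrArg Subtype.val hp)
  · exfalso
    obtain ⟨a, ha⟩ := Finset.card_pos.1 (show 0 < (fixedPts x).card by omega)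
    have hsfree : ∀ p, s p ≠ p := fun p hp => by
      have := Finset.card_pos.2 ⟨p, mem_fixedPts.2 hp⟩
      omega
    obtain ⟨b, hb, hb'⟩ := Finset.exists_mem_notMem_of_card_lt_card
      (show ({a, s a} : Finset GolayPt).card < (fixedPts x).card from
        lt_of_le_of_lt Finset.card_le_two (by omega))
    simp only [Finset.mem_insert, Finset.mem_singleton, not_or] at hb'
    rw [mem_fixedPts] at ha hb
    have hg : x * s ∈ M24 := M24.mul_mem hx hs
    have hga : (x * s) a = s a := hperm a ha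
    have hgb : (x * s) b = s b := hperm b hb
    have hga2 : (x * s) (s a) = a := by rw [Equiv.Perm.mul_apply, hss, ha]
    have hgb2 : (x * s) (s b) = b := by rw [Equiv.Perm.mul_apply, hss, hb]
    obtain ⟨k, hk, hmem⟩ := exists_conj_pairs hg (a := a) (b := b) (by rw [hga]; exact hsfree a)
      (by rw [hga, hga2]) (by rw [hgb]; exact hsfree b) (by rw [hgb, hgb2]) hb'.1
      (by rw [hga]; exact hb'.2)
    have hsq : (x * s) ^ 2 = x⁻¹ := by
      rw [hc.mul_pow, hs2, mul_one]
      exact eq_inv_of_mul_eq_one_left (by rw [← pow_succ]; exact hx3)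
    have hcu : (x * s) ^ 3 = s := by
      rw [hc.mul_pow, hx3, one_mul, pow_succ, hs2, one_mul]
    have h := List.all_eq_true.1 six_facts _ hmem
    simp only [cntFix_toTab, conj_pow, hsq, hcu, card_fixedPts_conj] at h
    have hinv : fixedPts x⁻¹ = fixedPts x := by
      ext p
      rw [mem_fixedPts, mem_fixedPts, Equiv.Perm.inv_eq_iff_eq, eq_comm]
    rw [hinv, hx6, hs0] at h
    simp at h
  · exact Or.inl ⟨hx6, hs8⟩

/-- The subgroup of `M24` commuting with a permutation. -/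
abbrev centM24 (t : Equiv.Perm GolayPt) : Subgroup (Equiv.Perm GolayPt) :=
  M24 ⊓ Subgroup.centralizer {t}

theorem mem_centM24 {t c : Equiv.Perm GolayPt} : c ∈ centM24 t ↔ c ∈ M24 ∧ c * t = t * c := by
  rw [Subgroup.mem_inf, Subgroup.mem_centralizer_iff]
  simp [eq_comm]

/-- The sextet of tetrads given by masks. -/
def maskSextet (L : List ℕ) : Finset (Finset GolayPt) := (L.map ofMask).toFinset

theorem maskSextet_invFree : maskSextet invFreeSextet ∈ sextets := by
  have hall : invFreeSextet.all (fun a => decide (a < 2 ^ 24) && pop a == 4 &&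
      invFreeSextet.all fun b => a == b || (inCode (a ||| b) && pop (a ||| b) == 8)) = true ∧
      invFreeSextet.Nodup ∧ invFreeSextet.length = 6 := by decide +kernel
  obtain ⟨hall, hnd, hlen⟩ := hall
  simp only [List.all_eq_true, Bool.and_eq_true, decide_eq_true_eq, beq_iff_eq, Bool.or_eq_true]
    at hall
  refine ⟨?_, ?_, ?_⟩
  · rw [maskSextet, List.card_toFinset, List.dedup_eq_self.2, List.length_map, hlen]
    exact hnd.map_on fun a ha b hb e => by
      rw [← toMask_ofMask (hall a ha).1.1, e, toMask_ofMask (hall b hb).1.1]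
  · intro t ht
    rw [maskSextet, List.mem_toFinset, List.mem_map] at ht
    obtain ⟨a, ha, rfl⟩ := ht
    rw [← (hall a ha).1.2, pop_eq_card]
  · intro t ht u hu htu
    rw [maskSextet, List.mem_toFinset, List.mem_map] at ht hu
    obtain ⟨a, ha, rfl⟩ := ht
    obtain ⟨b, hb, rfl⟩ := hu
    have h := ((hall a ha).2 b hb).resolve_left fun e => htu (by rw [e])
    rw [← ofMask_lor]
    exact ofMask_mem_octads h.1 h.2

theorem smul_maskSextet {g : Equiv.Perm GolayPt} {L : List ℕ}
    (h : L.all (fun a => L.any fun b => maskImage (toTab g) a == b) = true) :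
    g • maskSextet L = maskSextet L := by
  refine Finset.eq_of_subset_of_card_le ?_ (by rw [Finset.card_smul_finset])
  intro s hs
  obtain ⟨t, ht, rfl⟩ := Finset.mem_smul_finset.1 hs
  rw [maskSextet, List.mem_toFinset, List.mem_map] at ht ⊢
  obtain ⟨a, ha, rfl⟩ := ht
  simp only [List.all_eq_true, List.any_eq_true, beq_iff_eq] at h
  obtain ⟨b, hb, e⟩ := h a ha
  exact ⟨b, hb, by rw [smul_ofMask_tab, e]⟩

theorem free_tab_apply {t : Equiv.Perm GolayPt} (ht : toTab t = invFree) :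
    t (i2p 0) = i2p 1 ∧ t (i2p 2) = i2p 3 := by
  have h := centFree_facts.2.2.2.2
  rw [← ht, ap_toTab t (by norm_num), ap_toTab t (by norm_num)] at h
  exact ⟨p2i_injective (h.1.trans (p2i_i2p 1 (by norm_num)).symm),
    p2i_injective (h.2.trans (p2i_i2p 3 (by norm_num)).symm)⟩

theorem card_centM24_le {t : Equiv.Perm GolayPt} (ht : toTab t = invFree) :
    Nat.card (centM24 t) ≤ 24 * ((orbSet (fixPt (centM24 t) (i2p 0)) (i2p 2)).ncard * 16) ∧
      (orbSet (fixPt (centM24 t) (i2p 0)) (i2p 2)).ncard ≤ 22 := by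
  classical
  obtain ⟨t0, t2⟩ := free_tab_apply ht
  set C₀ := fixPt (centM24 t) (i2p 0)
  have h1 : ∀ g ∈ C₀, g (i2p 1) = i2p 1 := fun g hg => by
    rw [← t0, ← Equiv.Perm.mul_apply, (mem_centM24.1 hg.1).2, Equiv.Perm.mul_apply,
      show g (i2p 0) = i2p 0 from hg.2]
  have horb0 : (orbSet (centM24 t) (i2p 0)).ncard ≤ 24 := by
    refine (Set.ncard_le_ncard (Set.subset_univ _)).trans ?_
    rw [Set.ncard_univ, natCard_pt]
  have horb2 : (orbSet C₀ (i2p 2)).ncard ≤ 22 := by
    have hsub : orbSet C₀ (i2p 2) ⊆ ({i2p 0, i2p 1} : Set GolayPt)ᶜ := by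
      rintro _ ⟨g, hg, rfl⟩ (e | e)
      · exact absurd (g.injective (e.trans hg.2.symm)) (by decide)
      · exact absurd (g.injective ((Set.mem_singleton_iff.1 e).trans (h1 g hg).symm)) (by decide)
    refine (Set.ncard_le_ncard hsub).trans ?_
    rw [Set.ncard_compl, natCard_pt, Set.ncard_pair (by decide)]
  have h16 : Nat.card (fixPt C₀ (i2p 2)) ≤ 16 := by
    set L := fixList4F.filter fun u => fcomp u invFree == fcomp invFree u with hL
    have hmem : ∀ g : fixPt C₀ (i2p 2), toTab (g : Equiv.Perm GolayPt) ∈ L.toFinset := by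
      intro g
      rw [List.mem_toFinset, hL, List.mem_filter, beq_iff_eq, fixList4F_eq]
      refine ⟨toTab_mem_fixList4 (mem_base7Fix.2 ⟨(mem_centM24.1 g.2.1.1).1, fun b hb => ?_⟩), ?_⟩
      · have hb' : b ∈ [0, 1, 2, 3] := by simpa [base7] using hb
        simp only [List.mem_cons, List.not_mem_nil, or_false] at hb'
        rcases hb' with rfl | rfl | rfl | rfl
        · exact g.2.1.2
        · exact h1 _ g.2.1
        · exact g.2.2
        · rw [← t2, ← Equiv.Perm.mul_apply, (mem_centM24.1 g.2.1.1).2, Equiv.Perm.mul_apply,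
            show (g : Equiv.Perm GolayPt) (i2p 2) = i2p 2 from g.2.2]
      · rw [← ht, fcomp_toTab, fcomp_toTab, (mem_centM24.1 g.2.1.1).2]
    have h := Nat.card_le_card_of_injective
      (fun g : fixPt C₀ (i2p 2) => (⟨_, hmem g⟩ : L.toFinset))
      (fun a b e => Subtype.ext (toTab_injective (congrArg Subtype.val e)))
    rw [Nat.card_eq_finsetCard] at h
    exact h.trans ((List.toFinset_card_le _).trans centFree_facts.2.2.2.1)
  have hC := card_eq_orbSet_mul (centM24 t) (i2p 0)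
  have hC0 := card_eq_orbSet_mul C₀ (i2p 2)
  refine ⟨?_, horb2⟩
  rw [hC, hC0]
  exact Nat.mul_le_mul horb0 (Nat.mul_le_mul_left _ h16)

theorem smul_sextets {g : Equiv.Perm GolayPt} (hg : g ∈ M24) {S : Finset (Finset GolayPt)}
    (hS : S ∈ sextets) : g • S ∈ sextets := by
  refine ⟨by rw [Finset.card_smul_finset]; exact hS.1, fun t ht => ?_, fun t ht u hu htu => ?_⟩
  · obtain ⟨t', ht', rfl⟩ := Finset.mem_smul_finset.1 ht
    rw [Finset.card_smul_finset]; exact hS.2.1 t' ht'
  · obtain ⟨t', ht', rfl⟩ := Finset.mem_smul_finset.1 ht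
    obtain ⟨u', hu', rfl⟩ := Finset.mem_smul_finset.1 hu
    rw [← Finset.smul_finset_union]
    exact smul_mem_octads hg (hS.2.2 t' ht' u' hu' fun e => htu (by rw [e]))

theorem centFree_spec {t : Equiv.Perm GolayPt} (ht : toTab t = invFree) :
    Nat.card (centM24 t) = 7680 ∧ (∀ q, ∃ c ∈ centM24 t, c (i2p 0) = q) ∧
    t • maskSextet invFreeSextet = maskSextet invFreeSextet ∧
    ∀ c ∈ centM24 t, c • maskSextet invFreeSextet = maskSextet invFreeSextet := by
  set K := centM24 t ⊓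
    MulAction.stabilizer (Equiv.Perm GolayPt) (maskSextet invFreeSextet) with hKdef
  have hrep : ∀ l ∈ invFreeChain, ∀ u ∈ l.2.1, Rep K u := by
    intro l hl u hu
    have h := List.all_eq_true.1 (List.all_eq_true.1 centFree_facts.1 l hl) u hu
    simp only [centOK, Bool.and_eq_true, beq_iff_eq] at h
    obtain ⟨g, hg, rfl⟩ := rep_of_tabInM24 h.1.1
    refine ⟨g, ⟨mem_centM24.2 ⟨hg, toTab_injective ?_⟩, ?_⟩, rfl⟩
    · rw [← fcomp_toTab, ← fcomp_toTab, ht]; exact h.1.2
    · refine MulAction.mem_stabilizer_iff.2 (smul_maskSextet ?_)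
      simpa only [maskImageF_eq] using h.2
  have hge := chainProd_le_card invFreeChain K hrep centFree_facts.2.1
  rw [centFree_facts.2.2.1] at hge
  obtain ⟨hbound, hb22⟩ := card_centM24_le ht
  have hle : Nat.card (centM24 t) ≤ 8448 :=
    hbound.trans ((Nat.mul_le_mul_left _ (Nat.mul_le_mul_right _ hb22)).trans (by norm_num))
  have hdvd : Nat.card K ∣ Nat.card (centM24 t) := Subgroup.card_dvd_of_le inf_le_left
  obtain ⟨m, hm⟩ := hdvd
  have hm1 : m = 1 := by
    have hpos : 0 < Nat.card (centM24 t) := Nat.card_pos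
    rcases Nat.lt_or_ge m 2 with h | h
    · interval_cases m <;> omega
    · have := Nat.mul_le_mul hge h
      omega
  rw [hm1, mul_one] at hm
  have heq : K = centM24 t := Subgroup.eq_of_le_of_card_ge inf_le_left hm.le
  have hstab : ∀ c ∈ centM24 t, c • maskSextet invFreeSextet = maskSextet invFreeSextet :=
    fun c hc => (heq ▸ hc : c ∈ K).2
  have htM : t ∈ M24 := by
    obtain ⟨t', ht', e⟩ := rep_of_tabInM24 data_rep.2.2.2.2.1
    rwa [toTab_injective (e.trans ht.symm)] at ht'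
  -- the stabiliser of the base point fixes its tetrad
  have h20 : (orbSet (fixPt (centM24 t) (i2p 0)) (i2p 2)).ncard ≤ 20 := by
    obtain ⟨A, hA, h0A, hfour, h2A⟩ : ∃ A ∈ invFreeSextet, i2p 0 ∈ ofMask A ∧
        (ofMask A).card = 4 ∧ i2p 2 ∉ ofMask A := by
      have hfound : invFreeSextet.any (fun a => decide (a < 2 ^ 24) && a.testBit 0 &&
          pop a == 4 && !a.testBit 2) = true := by decide +kernel
      obtain ⟨A, hA, h⟩ := List.any_eq_true.1 hfound
      simp only [Bool.and_eq_true, decide_eq_true_eq, beq_iff_eq, Bool.not_eq_true'] at h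
      refine ⟨A, hA, ?_, ?_, ?_⟩
      · rw [mem_ofMask_iff, p2i_i2p 0 (by norm_num)]; exact h.1.1.2
      · rw [← pop_eq_card, h.1.2]
      · rw [mem_ofMask_iff, p2i_i2p 2 (by norm_num), h.2]; exact Bool.false_ne_true
    have hsub : orbSet (fixPt (centM24 t) (i2p 0)) (i2p 2) ⊆ ↑((ofMask A)ᶜ) := by
      rintro _ ⟨g, hg, rfl⟩
      have hmem : g • ofMask A ∈ maskSextet invFreeSextet := by
        rw [← hstab g hg.1]
        refine Finset.smul_mem_smul_finset ?_
        rw [maskSextet, List.mem_toFinset]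
        exact List.mem_map.2 ⟨A, hA, rfl⟩
      have hfixA : g • ofMask A = ofMask A := by
        by_contra hne
        have hAmem : ofMask A ∈ maskSextet invFreeSextet := by
          rw [maskSextet, List.mem_toFinset]
          exact List.mem_map.2 ⟨A, hA, rfl⟩
        have hdisj := sextet_disjoint maskSextet_invFree hmem hAmem hne
        exact Finset.disjoint_left.1 hdisj
          (Finset.mem_smul_finset.2 ⟨i2p 0, h0A, hg.2⟩) h0A
      rw [Finset.mem_coe, Finset.mem_compl]
      intro h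
      rw [← hfixA, ← Equiv.Perm.smul_def, Finset.smul_mem_smul_finset_iff] at h
      exact h2A h
    refine (Set.ncard_le_ncard hsub).trans ?_
    rw [Set.ncard_coe_finset, Finset.card_compl, hfour]
    decide
  have hcard : Nat.card (centM24 t) = 7680 := le_antisymm
    (hbound.trans ((Nat.mul_le_mul_left _ (Nat.mul_le_mul_right _ h20)).trans (by norm_num)))
    (hm ▸ hge)
  refine ⟨hcard, fun q => ?_, hstab t (mem_centM24.2 ⟨htM, rfl⟩), hstab⟩
  have hfull : (orbSet (centM24 t) (i2p 0)).ncard = 24 := by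
    refine le_antisymm ((Set.ncard_le_ncard (Set.subset_univ _)).trans
      (by rw [Set.ncard_univ, natCard_pt])) ?_
    have hok : (invFreeChain.head?.map fun l =>
        l.1 == 0 && (reach l.2.1 0 12).length == 24) = some true := by decide +kernel
    obtain ⟨l, hl, e⟩ := Option.map_eq_some_iff.1 hok
    simp only [Bool.and_eq_true, beq_iff_eq] at e
    rw [← e.2]
    refine orbit_ncard_ge (centM24 t) l.2.1 (fun u hu => ?_) 0 (by norm_num) 12
    obtain ⟨g, hg, hgu⟩ := hrep l (List.mem_of_mem_head? hl) u hu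
    exact ⟨g, hg.1, hgu⟩
  have huniv : orbSet (centM24 t) (i2p 0) = Set.univ :=
    Set.eq_of_subset_of_ncard_le (Set.subset_univ _) (by rw [Set.ncard_univ, natCard_pt, hfull])
  obtain ⟨c, hc, e⟩ := (huniv ▸ Set.mem_univ q : q ∈ orbSet (centM24 t) (i2p 0))
  exact ⟨c, hc, e⟩

/-- The centraliser of a fixed-point-free involution. -/
theorem centFree {t : Equiv.Perm GolayPt} (ht : t ∈ M24) (h2 : orderOf t = 2)
    (h0 : ∀ p, t p ≠ p) :
    Nat.card (centM24 t) = 7680 ∧ (∀ p q, ∃ c ∈ centM24 t, c p = q) ∧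
    ∃ S ∈ sextets, t • S = S ∧ ∀ c ∈ centM24 t, c • S = S := by
  have hf0 : (fixedPts t).card = 0 := Finset.card_eq_zero.2 (Finset.eq_empty_iff_forall_notMem.2
    fun p hp => h0 p (mem_fixedPts.1 hp))
  obtain ⟨k, hk, e⟩ : ∃ k ∈ M24, toTab (k * t * k⁻¹) = invFree := by
    rcases exists_conj_involution ht h2 with ⟨-, h⟩ | ⟨h, -⟩
    · exact h
    · omega
  obtain ⟨hcard, htrans, hS1, hS2⟩ := centFree_spec e
  have hiff : ∀ c, c ∈ centM24 t ↔ k * c * k⁻¹ ∈ centM24 (k * t * k⁻¹) := fun c => by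
    rw [mem_centM24, mem_centM24, conj_mem_M24_iff hk]
    refine and_congr_right fun _ => ⟨fun h => ?_, fun h => ?_⟩
    · calc k * c * k⁻¹ * (k * t * k⁻¹) = k * (c * t) * k⁻¹ := by group
        _ = k * (t * c) * k⁻¹ := by rw [h]
        _ = k * t * k⁻¹ * (k * c * k⁻¹) := by group
    · have h' := congrArg (fun u => k⁻¹ * u * k) h
      simpa [mul_assoc] using h'
  obtain ⟨eq⟩ := nonempty_conj_equiv k hiff
  refine ⟨by rw [Nat.card_congr eq.toEquiv, hcard], fun p q => ?_,
    k⁻¹ • maskSextet invFreeSextet, smul_sextets (M24.inv_mem hk) maskSextet_invFree, ?_,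
    fun c hc => ?_⟩
  · obtain ⟨a, ha, hap⟩ := htrans (k p)
    obtain ⟨b, hb, hbq⟩ := htrans (k q)
    refine ⟨k⁻¹ * (b * a⁻¹) * k, (hiff _).2 ?_, ?_⟩
    · rw [show k * (k⁻¹ * (b * a⁻¹) * k) * k⁻¹ = b * a⁻¹ by group]
      exact Subgroup.mul_mem _ hb (Subgroup.inv_mem _ ha)
    · simp only [Equiv.Perm.mul_apply]
      rw [← hap, Equiv.Perm.coe_inv, Equiv.Perm.coe_inv, Equiv.symm_apply_apply, hbq,
        Equiv.symm_apply_apply]
  · rw [eq_inv_smul_iff, ← mul_smul, ← mul_smul]; exact hS1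
  · rw [eq_inv_smul_iff, ← mul_smul, ← mul_smul]; exact hS2 _ ((hiff c).1 hc)

end CfsgLib.Mathieu
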