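import Cfsg.Agent.Mathieu.Tables

/-! Generated transversals for the stabilisers of four and five base points of `M24`. -/

set_option autoImplicit false

namespace CfsgLib.Mathieu

/-- Seeds. -/
def seedsFix4 : List (List ℕ) := [
  [0,1,2,3,13,10,8,20,17,19,18,15,21,22,7,5,23,12,11,14,9,6,16,4],
  [0,1,2,3,4,11,20,10,8,21,12,13,7,5,6,16,19,22,17,15,14,23,18,9],
  [0,1,2,3,4,23,11,7,15,22,10,6,12,18,17,8,19,14,13,16,21,20,9,5],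
  [0,1,2,3,4,19,20,7,14,18,10,21,12,22,8,17,23,15,9,5,6,11,13,16],
  [0,1,2,3,4,22,17,7,21,23,10,14,12,19,11,20,18,6,16,13,15,8,5,9],
  [0,1,2,3,4,8,18,7,5,20,10,13,12,11,19,23,17,16,6,14,9,22,21,15]]

/-- Part 0 of a straight-line program. -/
def progFix40 : List (Bool × ℕ × ℕ × List ℕ) := [
  (false, 2, 1, [0,1,2,3,5,12,8,14,22,15,17,16,23,18,10,11,9,7,13,6,21,20,19,4]),
  (false, 3, 1, [0,1,2,3,18,10,15,21,14,16,13,8,20,9,7,23,5,12,6,17,22,11,19,4]),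
  (false, 6, 8, [0,1,2,3,6,10,23,22,19,17,11,5,9,20,7,15,8,12,18,16,21,13,14,4]),
  (false, 5, 1, [0,1,2,3,19,10,21,15,6,13,16,20,8,5,7,22,9,12,14,11,23,17,18,4]),
  (false, 1, 10, [0,1,2,3,14,18,6,5,8,22,23,9,17,10,20,16,19,21,7,15,4,12,11,13]),
  (false, 1, 11, [0,1,2,3,7,11,8,10,17,16,4,19,12,18,9,23,14,6,20,5,13,21,15,22]),
  (false, 6, 7, [0,1,2,3,8,12,5,19,21,23,16,17,15,6,10,13,20,7,11,18,22,9,14,4]),
  (false, 1, 1, [0,1,2,3,22,18,17,9,12,14,11,5,6,16,20,10,4,21,15,7,19,8,23,13]),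
  (false, 3, 14, [0,1,2,3,9,13,14,22,12,17,6,23,11,19,21,10,4,20,8,7,16,15,5,18]),
  (false, 1, 7, [0,1,2,3,10,21,17,7,16,5,12,23,4,11,18,15,19,20,22,8,6,9,14,13]),
  (false, 6, 1, [0,1,2,3,11,10,5,9,16,14,6,23,22,21,7,8,15,12,13,19,20,18,17,4]),
  (false, 2, 16, [0,1,2,3,12,23,22,10,19,11,7,9,4,13,17,16,15,14,18,8,20,21,6,5]),
  (false, 2, 10, [0,1,2,3,15,12,23,16,20,5,19,14,8,11,10,18,21,7,6,13,9,22,17,4]),
  (false, 1, 14, [0,1,2,3,16,11,12,19,21,7,15,10,8,23,9,18,13,6,5,20,14,17,4,22]),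
  (false, 2, 8, [0,1,2,3,17,12,16,23,6,19,5,8,14,21,10,9,11,7,20,22,18,13,15,4]),
  (false, 6, 15, [0,1,2,3,20,11,19,21,12,16,18,15,13,14,22,10,4,9,5,7,17,23,8,6]),
  (false, 6, 14, [0,1,2,3,21,6,16,20,12,19,13,8,18,17,9,10,4,22,23,7,14,5,15,11]),
  (false, 3, 7, [0,1,2,3,23,12,15,17,9,8,14,19,5,13,10,6,22,7,18,11,20,21,16,4]),
  (false, 2, 2, [0,1,2,3,4,13,14,12,8,23,7,5,10,11,20,19,15,18,22,16,6,9,17,21])]

/-- A straight-line program. -/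
def progFix4 : List (Bool × ℕ × ℕ × List ℕ) :=
  progFix40

/-- A transversal. -/
def trans4 : List (List ℕ) := [
  [0,1,2,3,4,5,6,7,8,9,10,11,12,13,14,15,16,17,18,19,20,21,22,23],
  [0,1,2,3,5,12,8,14,22,15,17,16,23,18,10,11,9,7,13,6,21,20,19,4],
  [0,1,2,3,6,10,23,22,19,17,11,5,9,20,7,15,8,12,18,16,21,13,14,4],
  [0,1,2,3,7,11,8,10,17,16,4,19,12,18,9,23,14,6,20,5,13,21,15,22],
  [0,1,2,3,8,12,5,19,21,23,16,17,15,6,10,13,20,7,11,18,22,9,14,4],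
  [0,1,2,3,9,13,14,22,12,17,6,23,11,19,21,10,4,20,8,7,16,15,5,18],
  [0,1,2,3,10,21,17,7,16,5,12,23,4,11,18,15,19,20,22,8,6,9,14,13],
  [0,1,2,3,11,10,5,9,16,14,6,23,22,21,7,8,15,12,13,19,20,18,17,4],
  [0,1,2,3,12,23,22,10,19,11,7,9,4,13,17,16,15,14,18,8,20,21,6,5],
  [0,1,2,3,13,10,8,20,17,19,18,15,21,22,7,5,23,12,11,14,9,6,16,4],
  [0,1,2,3,14,18,6,5,8,22,23,9,17,10,20,16,19,21,7,15,4,12,11,13],
  [0,1,2,3,15,12,23,16,20,5,19,14,8,11,10,18,21,7,6,13,9,22,17,4],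
  [0,1,2,3,16,11,12,19,21,7,15,10,8,23,9,18,13,6,5,20,14,17,4,22],
  [0,1,2,3,17,12,16,23,6,19,5,8,14,21,10,9,11,7,20,22,18,13,15,4],
  [0,1,2,3,18,10,15,21,14,16,13,8,20,9,7,23,5,12,6,17,22,11,19,4],
  [0,1,2,3,19,10,21,15,6,13,16,20,8,5,7,22,9,12,14,11,23,17,18,4],
  [0,1,2,3,20,11,19,21,12,16,18,15,13,14,22,10,4,9,5,7,17,23,8,6],
  [0,1,2,3,21,6,16,20,12,19,13,8,18,17,9,10,4,22,23,7,14,5,15,11],
  [0,1,2,3,22,18,17,9,12,14,11,5,6,16,20,10,4,21,15,7,19,8,23,13],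
  [0,1,2,3,23,12,15,17,9,8,14,19,5,13,10,6,22,7,18,11,20,21,16,4]]

/-- A transversal. -/
def trans5 : List (List ℕ) := [
  [0,1,2,3,4,11,20,10,8,21,12,13,7,5,6,16,19,22,17,15,14,23,18,9],
  [0,1,2,3,4,13,14,12,8,23,7,5,10,11,20,19,15,18,22,16,6,9,17,21],
  [0,1,2,3,4,5,6,7,8,9,10,11,12,13,14,15,16,17,18,19,20,21,22,23]]

end CfsgLib.Mathieu
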