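import Cfsg.Agent.Mathieu.FusionCert
import Cfsg.Agent.Eq.Def_Spor_Mathieu
import Cfsg.Agent.Golay.Perm

/-!
The certificates for the `2`-fusion systems of the Mathieu groups, with their members checked.
-/

set_option autoImplicit false

namespace CfsgLib.Mathieu.Code

open Cfsg CfsgLib.Mathieu CfsgLib.Golay
open scoped Pointwise

theorem rep_of_check {G : Subgroup (Equiv.Perm GolayPt)} (P : Equiv.Perm GolayPt → Bool)
    (hP : ∀ g, P g = true → g ∈ G) (l : List (ℕ × ℕ))
    (h : (l.all fun p => if hp : okPair p.1 p.2 = true then P (permOf p.1 p.2 hp) else false) = true) :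
    ∀ p ∈ l, ∃ g ∈ G, code g = p.1 ∧ code g⁻¹ = p.2 := by
  intro p hp
  have h' := List.all_eq_true.1 h p hp
  by_cases hok : okPair p.1 p.2 = true
  · rw [dif_pos hok] at h'
    exact ⟨_, hP _ h', code_permOf _ _ hok⟩
  · rw [dif_neg hok] at h'
    exact absurd h' Bool.false_ne_true

/-- Membership in `M24`, as a test. -/
def inM24 (g : Equiv.Perm GolayPt) : Bool :=
  basisMasks.all fun b => inCode (toMask (g • ofMask b))

theorem inM24_mem {g : Equiv.Perm GolayPt} (h : inM24 g = true) : g ∈ Cfsg.M24 :=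
  mem_M24_iff.2 (List.all_eq_true.1 h)

/-- Membership in `M23`, as a test. -/
def inM23 (g : Equiv.Perm GolayPt) : Bool := inM24 g && decide (g none = none)

theorem inM23_mem {g : Equiv.Perm GolayPt} (h : inM23 g = true) : g ∈ Cfsg.Spor.M23 := by
  simp only [inM23, Bool.and_eq_true, decide_eq_true_eq] at h
  exact ⟨inM24_mem h.1, h.2⟩

/-- Membership in `M22`, as a test. -/
def inM22 (g : Equiv.Perm GolayPt) : Bool := inM23 g && decide (g (some 0) = some 0)

theorem inM22_mem {g : Equiv.Perm GolayPt} (h : inM22 g = true) : g ∈ Cfsg.Spor.M22 := by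
  simp only [inM22, Bool.and_eq_true, decide_eq_true_eq] at h
  exact ⟨inM23_mem h.1, h.2⟩

/-- Membership in `M12`, as a test. -/
def inM12 (g : Equiv.Perm GolayPt) : Bool :=
  inM24 g && decide (g • Cfsg.Spor.squareDodecad = Cfsg.Spor.squareDodecad)

theorem inM12_mem {g : Equiv.Perm GolayPt} (h : inM12 g = true) : g ∈ Cfsg.Spor.M12 := by
  simp only [inM12, Bool.and_eq_true, decide_eq_true_eq] at h
  exact ⟨inM24_mem h.1, h.2⟩

/-- Membership in `M11`, as a test. -/
def inM11 (g : Equiv.Perm GolayPt) : Bool := inM12 g && decide (g (some 0) = some 0)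

theorem inM11_mem {g : Equiv.Perm GolayPt} (h : inM11 g = true) : g ∈ Cfsg.Spor.M11 := by
  simp only [inM11, Bool.and_eq_true, decide_eq_true_eq] at h
  exact ⟨inM12_mem h.1, h.2⟩

end CfsgLib.Mathieu.Code
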