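import Cfsg.Agent.Mathieu.Tables

/-! Affine labels for the points outside the octad fixed by an involution. -/

set_option autoImplicit false

namespace CfsgLib.Mathieu

/-- The label of each point, with bit 1 the homogeneous coordinate. -/
def affLabels : List ℕ := [2, 3, 6, 7, 0, 0, 10, 0, 18, 11, 0, 14, 0, 30, 0, 19, 22, 0, 27, 23, 31, 26, 15, 0]

/-- The points labelled by the origin and the unit vectors. -/
def affFrame : List ℕ := [1, 0, 2, 6, 8]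

/-- Elements of the octad stabiliser with the columns of their matrices. -/
def affGens : List (List ℕ × List ℕ) := [
  ([0,1,2,3,4,5,16,10,13,19,12,8,7,11,23,20,21,14,9,18,22,6,15,17], [1, 2, 4, 20, 28]),
  ([0,1,2,3,4,14,15,10,21,8,12,19,7,22,17,18,13,5,6,20,11,9,16,23], [1, 2, 4, 17, 24]),
  ([0,1,2,3,4,17,22,7,16,11,10,9,12,20,23,19,8,5,21,15,13,18,6,14], [1, 2, 4, 13, 20]),
  ([0,1,2,3,5,10,11,17,20,22,23,6,14,19,7,13,18,12,8,21,16,15,9,4], [1, 2, 4, 12, 29]),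
  ([0,1,2,3,23,7,18,5,8,21,17,20,14,22,12,15,16,10,6,19,11,9,13,4], [1, 2, 4, 25, 16]),
  ([0,1,15,8,4,12,19,5,22,16,23,2,7,9,10,11,13,17,18,20,6,21,3,14], [1, 2, 17, 21, 13]),
  ([0,1,16,19,4,5,18,17,20,21,7,22,14,8,12,13,9,23,3,6,15,2,11,10], [1, 2, 20, 25, 29]),
  ([0,1,21,18,4,7,13,23,8,20,14,2,10,16,12,15,6,17,22,9,19,11,3,5], [1, 2, 24, 28, 16]),
  ([0,2,19,15,5,14,9,10,18,22,17,13,7,3,4,20,11,23,16,6,1,8,21,12], [4, 2, 21, 9, 25]),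
  ([0,13,15,22,4,10,21,17,20,2,12,9,7,16,23,1,11,14,18,8,6,3,19,5], [28, 2, 17, 24, 29]),
  ([21,6,16,2,5,23,3,10,1,19,12,9,7,8,4,15,22,14,11,20,0,13,18,17], [16, 26, 12, 29, 25]),
  ([22,0,21,19,5,7,3,23,9,6,4,8,17,16,14,2,13,10,11,15,18,1,20,12], [13, 15, 21, 8, 4])]

/-- Chain for the octad stabiliser. -/
def affOctadChain : List (ℕ × List (List ℕ) × ℕ) := [
  (0, [[22,0,21,19,5,7,3,23,9,6,4,8,17,16,14,2,13,10,11,15,18,1,20,12], [21,6,16,2,5,23,3,10,1,19,12,9,7,8,4,15,22,14,11,20,0,13,18,17]], 16),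
  (1, [[0,2,19,15,5,14,9,10,18,22,17,13,7,3,4,20,11,23,16,6,1,8,21,12], [0,13,15,22,4,10,21,17,20,2,12,9,7,16,23,1,11,14,18,8,6,3,19,5]], 15),
  (2, [[0,1,21,18,4,7,13,23,8,20,14,2,10,16,12,15,6,17,22,9,19,11,3,5], [0,1,15,8,4,12,19,5,22,16,23,2,7,9,10,11,13,17,18,20,6,21,3,14], [0,1,16,19,4,5,18,17,20,21,7,22,14,8,12,13,9,23,3,6,15,2,11,10]], 14),
  (4, [[0,1,2,3,23,7,18,5,8,21,17,20,14,22,12,15,16,10,6,19,11,9,13,4], [0,1,2,3,5,10,11,17,20,22,23,6,14,19,7,13,18,12,8,21,16,15,9,4]], 8),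
  (5, [[0,1,2,3,4,17,22,7,16,11,10,9,12,20,23,19,8,5,21,15,13,18,6,14], [0,1,2,3,4,14,15,10,21,8,12,19,7,22,17,18,13,5,6,20,11,9,16,23]], 4),
  (6, [[0,1,2,3,4,5,16,10,13,19,12,8,7,11,23,20,21,14,9,18,22,6,15,17]], 3)]

/-- Chain for the centraliser of the involution. -/
def affCentChain : List (ℕ × List (List ℕ) × ℕ) := [
  (0, [[18,21,0,1,5,4,15,12,16,8,17,6,7,3,23,19,22,10,20,11,2,13,9,14], [1,0,21,18,5,23,22,17,2,11,7,16,12,15,10,3,20,4,9,13,8,6,19,14]], 16),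
  (2, [[0,1,15,8,12,4,19,17,9,16,14,2,10,22,7,6,21,5,20,18,11,13,3,23], [0,1,22,11,10,12,21,17,8,18,7,19,23,3,5,15,20,4,9,13,2,6,16,14]], 14),
  (4, [[0,1,2,3,10,17,19,4,13,16,7,15,12,22,14,20,21,23,6,18,11,9,8,5], [0,1,2,3,12,14,6,10,15,9,7,11,4,20,5,8,19,23,21,16,13,18,22,17], [0,1,2,3,17,10,9,5,13,6,14,22,23,15,7,20,21,12,16,18,8,19,11,4]], 8),
  (5, [[0,1,2,3,4,17,22,7,16,11,10,9,12,20,23,19,8,5,21,15,13,18,6,14], [0,1,2,3,4,5,16,10,13,19,12,8,7,11,23,20,21,14,9,18,22,6,15,17]], 4),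
  (6, [[0,1,2,3,4,5,16,10,13,19,12,8,7,11,23,20,21,14,9,18,22,6,15,17]], 3)]

/-- Columns of the matrix of the involution. -/
def affInvolution : List ℕ := [1, 3, 4, 8, 16]

/-- A second translation. -/
def affTrans : List ℕ := [2,3,0,1,4,5,11,7,16,22,10,6,12,21,14,19,8,17,20,15,18,13,9,23]

end CfsgLib.Mathieu
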