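import Cfsg.Agent.Mathieu.Tables

/-! Generated data for a Sylow 2-subgroup of `M24`. -/

set_option autoImplicit false

namespace CfsgLib.Mathieu

/-- The pairs. -/
def sylPairs : List ℕ := [3, 12, 144, 5120]

/-- The quadruples. -/
def sylQuads : List ℕ := [15, 5264]

/-- A chain. -/
def sylChain : List (ℕ × List (List ℕ) × ℕ) := [
  (0, [[2,3,1,0,4,5,20,7,16,13,12,21,10,6,17,19,15,14,11,8,9,22,18,23], [4,7,10,12,0,5,6,1,8,22,2,11,3,13,17,15,19,14,18,16,21,20,9,23]], 8),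
  (2, [[0,1,3,2,4,5,18,7,8,21,12,13,10,11,17,15,19,14,6,16,22,9,20,23]], 2),
  (4, [[0,1,2,3,7,5,22,4,15,11,12,9,10,21,14,8,19,17,20,16,18,13,6,23], [0,1,2,3,10,5,11,12,19,22,4,6,7,20,14,16,15,17,21,8,13,18,9,23]], 4),
  (5, [[0,1,2,3,4,6,5,7,18,14,10,23,12,15,9,13,21,22,8,20,19,16,17,11], [0,1,2,3,4,8,18,7,5,20,10,13,12,11,19,23,17,16,6,14,9,22,21,15], [0,1,2,3,4,9,14,7,20,5,10,17,12,16,6,21,13,11,19,18,8,15,23,22], [0,1,2,3,4,11,23,7,13,17,10,5,12,8,22,18,20,9,15,21,16,19,14,6]], 16)]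

/-- Generators. -/
def sylGens : List (List ℕ) := [
  [2,3,1,0,4,5,20,7,16,13,12,21,10,6,17,19,15,14,11,8,9,22,18,23],
  [4,7,10,12,0,5,6,1,8,22,2,11,3,13,17,15,19,14,18,16,21,20,9,23],
  [0,1,3,2,4,5,18,7,8,21,12,13,10,11,17,15,19,14,6,16,22,9,20,23],
  [0,1,2,3,7,5,22,4,15,11,12,9,10,21,14,8,19,17,20,16,18,13,6,23],
  [0,1,2,3,10,5,11,12,19,22,4,6,7,20,14,16,15,17,21,8,13,18,9,23],
  [0,1,2,3,4,6,5,7,18,14,10,23,12,15,9,13,21,22,8,20,19,16,17,11],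
  [0,1,2,3,4,8,18,7,5,20,10,13,12,11,19,23,17,16,6,14,9,22,21,15],
  [0,1,2,3,4,9,14,7,20,5,10,17,12,16,6,21,13,11,19,18,8,15,23,22],
  [0,1,2,3,4,11,23,7,13,17,10,5,12,8,22,18,20,9,15,21,16,19,14,6]]

end CfsgLib.Mathieu
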