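import Cfsg.Agent.Schur.TwoCert

/-!
Data for the double cover of `M12`: a Hadamard matrix of order 12 on the two dodecads, elements of
`M12`, and a certificate that the cover has trivial multiplier.
-/

set_option autoImplicit false
set_option maxRecDepth 20000

namespace CfsgLib.Mathieu.DoubleTwelve

/-- The Hadamard matrix, as masks of the rows. -/
def hadamard : List ℕ := [32, 3719168, 689280, 11535488, 15335424, 0, 6326400, 0, 5390464, 5770240, 0, 0, 9603072, 12633088, 0, 0, 2247680, 0, 8931456, 0, 0, 0, 0, 0]

/-- Codes of elements of `M12`, with their inverses. -/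
def elts : List (ℕ × ℕ) := [
  (837896251273948185794850242805467718, 837896251273948185794850242805467718),
  (984574657262612311324662570656612384, 984574657262612311324662570656612384),
  (940259043414624214251165769468887058, 237860176653674287367011396572561601),
  (859638796281359827749188806331449920, 859638796281359827749188806331449920),
  (860206566224218651291138930063716390, 860206566224218651291138930063716390),
  (887496694538537633946048869139820836, 318975677805467426656801370736692649),
  (713102189936082114324401414406971396, 305460111132933999026701086830760513),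
  (815828686046986537787860339408503216, 849577823145141626862626824712921218),
  (435067357335512955768477865135751209, 594826631233649631332896675851281448),
  (850707251024338418445286208410558534, 731413444981961037517185928281589004),
  (858495111990935821919343073238191521, 721353172978191948653318573373079565),
  (984776479905651688074335803026915360, 984738414330551539821129199503282208),
  (445938370073688216927351017410175021, 927123568833993857031918366233872429),
  (486269721255646128499256522909682752, 444247727562737816462568057829655968),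
  (321483090699936189506869915383172128, 927695212252066131565693520543035424)]

/-- Two words whose lifts have the central involution as commutator. -/
def commWords : List ℕ × List ℕ := ([2], [4, 3])

/-- The certificate. -/
def cert : CfsgLib.Schur.TwoCert.Cert where
  n := 7
  rules := [
    ([0, 0], []),
    ([0, 1], [1, 0]),
    ([1, 1], []),
    ([0, 2], [2, 0]),
    ([1, 2], [2, 1]),
    ([2, 2], []),
    ([0, 3], [3, 0]),
    ([1, 3], [3, 1]),
    ([2, 3], [3, 2]),
    ([3, 3], [1]),
    ([0, 4], [4, 0]),
    ([1, 4], [4, 1]),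
    ([2, 4], [4, 2]),
    ([3, 4], [4, 3, 1]),
    ([4, 4], []),
    ([0, 5], [5, 0]),
    ([1, 5], [5, 1]),
    ([2, 5], [5, 2]),
    ([3, 5], [5, 3, 1, 0]),
    ([4, 5], [5, 4, 2]),
    ([5, 5], []),
    ([0, 6], [6, 0]),
    ([1, 6], [6, 1]),
    ([2, 6], [6, 2, 1, 0]),
    ([3, 6], [6, 3]),
    ([4, 6], [6, 4, 3, 1]),
    ([5, 6], [6, 5, 2, 1, 0]),
    ([6, 6], [3]),
    ([7, 0], [0, 7]),
    ([7, 1], [4, 3, 2, 0, 7]),
    ([7, 5, 2], [2, 0, 7]),
    ([8, 0], [0, 8]),
    ([8, 4, 3, 2, 1], [5, 2, 8]),
    ([9, 0], [0, 9]),
    ([9, 4, 3, 1], [4, 2, 9]),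
    ([10, 0], [0, 10]),
    ([10, 5, 3], [6, 4, 2, 1, 10]),
    ([10, 6, 4, 2, 1], [6, 5, 4, 3, 1, 0, 10])]
  eqs := [
    ([0, 2, 6], [(0, 3, true), (1, 21, true), (0, 23, true), (3, 0, true)], [(1, 23, true), (0, 21, true), (1, 3, true), (2, 1, true), (3, 0, true)]),
    ([0, 4, 5], [(0, 10, true), (1, 15, true), (0, 19, true)], [(1, 19, true), (0, 15, true), (1, 10, true), (2, 3, true)]),
    ([0, 4, 6], [(0, 10, true), (1, 21, true), (0, 25, true)], [(1, 25, true), (0, 21, true), (1, 10, true), (2, 6, true), (3, 1, true)]),
    ([1, 4, 5], [(0, 11, true), (1, 16, true), (0, 19, true)], [(1, 19, true), (0, 16, true), (1, 11, true), (2, 4, true)]),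
    ([1, 4, 6], [(0, 11, true), (1, 22, true), (0, 25, true), (3, 2, true)], [(1, 25, true), (0, 22, true), (1, 11, true), (2, 7, true), (3, 2, true)]),
    ([2, 2, 6], [(0, 5, true)], [(1, 23, true), (0, 23, true), (3, 3, true), (2, 4, true), (1, 5, true), (2, 1, true), (1, 2, true), (1, 0, true)]),
    ([2, 4, 6], [(0, 12, true), (1, 23, true), (0, 25, true), (3, 4, true), (4, 2, true)], [(1, 25, true), (0, 23, true), (3, 10, true), (2, 11, true), (1, 12, true), (4, 6, true), (3, 7, true), (2, 8, true), (5, 1, true), (4, 2, true)]),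
    ([2, 5, 6], [(0, 17, true), (1, 23, true), (0, 26, true), (4, 3, true), (3, 4, true), (2, 5, true), (3, 1, true), (2, 2, true), (2, 0, true)], [(1, 26, true), (0, 23, true), (3, 15, true), (2, 16, true), (1, 17, true), (4, 3, true), (3, 4, true), (2, 5, true), (3, 1, true), (2, 2, true), (2, 0, true)]),
    ([2, 6, 6], [(0, 23, true), (3, 21, true), (2, 22, true), (1, 23, true), (0, 27, true), (3, 1, true), (2, 2, true), (2, 0, true)], [(1, 27, true), (0, 8, true)]),
    ([3, 3, 4], [(0, 9, true), (0, 11, true)], [(1, 13, true), (0, 13, true), (2, 7, true), (1, 9, true), (1, 2, true)]),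
    ([3, 3, 5], [(0, 9, true), (0, 16, true)], [(1, 18, true), (0, 18, true), (3, 6, true), (2, 7, true), (1, 9, true), (1, 2, true), (1, 1, true), (2, 0, true)]),
    ([3, 3, 6], [(0, 9, true), (0, 22, true)], [(1, 24, true), (0, 24, true), (1, 9, true)]),
    ([4, 4, 5], [(0, 14, true)], [(1, 19, true), (0, 19, true), (2, 12, true), (1, 14, true), (1, 5, true)]),
    ([4, 4, 6], [(0, 14, true)], [(1, 25, true), (0, 25, true), (3, 11, true), (2, 13, true), (1, 14, true), (2, 2, true), (1, 9, true), (1, 2, true)]),
    ([4, 5, 5], [(0, 19, true), (2, 17, true), (1, 19, true), (0, 20, true), (1, 5, true)], [(1, 20, true)]),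
    ([4, 5, 6], [(0, 19, true), (2, 23, true), (1, 25, true), (0, 26, true), (4, 10, true), (3, 11, true), (2, 12, true), (5, 6, true), (4, 7, true), (3, 8, true), (6, 1, true), (5, 2, true), (5, 3, true), (4, 5, true), (4, 1, true), (5, 0, true)], [(1, 26, true), (0, 25, true), (3, 16, true), (2, 18, true), (1, 19, true), (3, 8, true), (6, 1, true), (5, 2, true), (5, 3, true), (4, 5, true), (4, 1, true), (5, 0, true)]),
    ([4, 6, 6], [(0, 25, true), (3, 22, true), (2, 24, true), (1, 25, true), (0, 27, true), (0, 13, true), (2, 7, true), (1, 9, true), (1, 2, true), (1, 7, true), (2, 2, true)], [(1, 27, true)]),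
    ([6, 6, 6], [(0, 27, true), (0, 24, true)], [(1, 27, true)]),
    ([7, 0, 1], [(0, 28, true), (1, 29, true), (0, 10, true), (1, 6, true), (2, 3, true), (3, 0, true)], [(1, 1, true), (0, 29, true), (4, 28, true), (3, 0, true)]),
    ([7, 1, 1], [(0, 29, true), (4, 29, true), (3, 10, true), (2, 12, true), (1, 13, true), (0, 14, true), (1, 4, true), (3, 6, true), (2, 7, true), (1, 8, true), (0, 9, true), (0, 4, true), (1, 2, true), (1, 3, true), (0, 5, true), (0, 0, true)], [(1, 2, true)]),
    ([7, 1, 5, 2], [(0, 29, true), (4, 30, true), (3, 3, true), (2, 5, true), (2, 0, true)], [(1, 16, true), (2, 4, true), (0, 30, true), (2, 29, true), (1, 10, true), (0, 12, true), (2, 6, true), (1, 8, true), (3, 3, true), (2, 5, true), (2, 0, true)]),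
    ([7, 5, 2, 5, 2], [(0, 30, true), (2, 30, true), (1, 3, true), (0, 5, true), (0, 0, true)], [(2, 17, true), (1, 20, true), (1, 5, true)]),
    ([10, 5, 3, 5, 3], [(0, 36, true), (4, 36, true), (3, 22, true), (2, 23, true), (1, 25, true), (0, 27, true), (0, 13, true), (2, 7, true), (1, 9, true), (1, 2, true), (1, 4, true), (2, 2, true), (2, 1, true), (3, 10, true), (2, 11, true), (1, 12, true), (0, 14, true), (2, 3, true), (1, 4, true), (0, 5, true), (1, 1, true), (0, 2, true)], [(2, 18, true), (1, 20, true), (3, 6, true), (2, 7, true), (1, 9, true), (1, 2, true), (0, 35, true)]),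
    ([10, 5, 3, 6, 4, 2, 1], [(0, 36, true), (4, 37, true), (3, 22, true), (2, 23, true), (1, 25, true), (0, 27, true), (0, 13, true), (2, 7, true), (1, 9, true), (1, 2, true), (1, 4, true), (2, 2, true), (2, 1, true), (3, 15, true), (2, 16, true), (1, 17, true), (0, 19, true), (2, 5, true), (3, 10, true), (2, 11, true), (1, 14, true), (2, 6, true), (1, 7, true), (3, 1, true), (2, 2, true), (2, 0, true)], [(2, 24, true), (1, 26, true), (5, 6, true), (4, 7, true), (3, 8, true), (6, 10, true), (5, 11, true), (4, 12, true), (3, 13, true), (5, 4, true), (6, 2, true), (6, 3, true), (5, 5, true), (5, 1, true), (4, 7, false), (4, 5, false), (2, 19, false), (3, 17, false), (4, 16, false), (0, 37, true), (6, 36, true), (10, 35, true), (5, 21, true), (4, 22, true), (3, 24, true), (2, 25, true), (1, 26, true), (0, 27, true), (0, 18, true), (3, 3, true), (2, 4, true), (4, 1, true), (3, 2, true), (3, 0, true), (2, 12, true), (1, 13, true), (3, 4, true), (4, 7, true), (3, 8, true), (2, 9, true), (2, 4, true), (3, 2, true), (3, 7, true), (2, 8, true), (4, 2, true), (4,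 10, true), (3, 12, true), (2, 13, true), (1, 14, true), (2, 4, true), (4, 3, true), (3, 4, true), (2, 5, true), (3, 1, true), (2, 2, true), (2, 0, true)]),
    ([10, 6, 4, 2, 1, 6, 4, 2, 1], [(0, 37, true), (6, 37, true), (5, 21, true), (4, 22, true), (3, 24, true), (2, 25, true), (1, 26, true), (0, 27, true), (0, 18, true), (3, 3, true), (2, 4, true), (4, 1, true), (3, 2, true), (3, 0, true), (2, 12, true), (1, 13, true), (3, 4, true), (4, 7, true), (3, 8, true), (2, 9, true), (2, 4, true), (3, 2, true), (3, 7, true), (2, 8, true), (4, 2, true), (4, 15, true), (3, 17, true), (2, 18, true), (1, 19, true), (0, 20, true), (1, 8, true), (4, 3, true), (3, 4, true), (2, 5, true), (3, 0, true), (2, 11, true), (1, 13, true), (0, 14, true), (1, 2, true), (0, 9, true), (0, 2, true)], [(4, 22, true), (3, 23, true), (2, 25, true), (1, 27, true), (1, 13, true), (3, 7, true), (2, 9, true), (2, 2, true), (2, 4, true), (3, 2, true), (3, 1, true), (4, 10, true), (3, 11, true), (2, 12, true), (1, 14, true), (3, 3, true), (2, 4, true), (1, 5, true), (2, 1, true), (1, 2,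 true), (0, 35, true)])]
  masks := [2, 8, 66, 16, 128, 31, 3538, 98304, 6291719, 2180, 65735, 4194304, 4128, 10752, 131104, 8723648, 20980224, 16777216, 1098, 30697, 70992, 1179657, 34541436008, 34370524443, 34455857034]
  gauge := [176160768, 167772160, 75497472, 134217728, 0, 0, 0, 0, 0, 0, 0]
  picks := [207419, 1, 207376, 2, 8, 1260654, 5, 16, 469082, 15433707, 262150, 206848, 1256558, 15235051, 727664, 1215, 1087, 1277038, 1343554, 27698230, 3167831, 467312, 2048, 0, 131072, 0, 0, 0]

end CfsgLib.Mathieu.DoubleTwelve
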