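import Cfsg.Agent.Mathieu.Code
import Cfsg.Agent.Fus.TwoSimple
import Cfsg.Agent.PGroup.Aut

/-!
Certificates for the `2`-fusion systems of subgroups of the symmetric group on the 24 points: a
polycyclic series of a Sylow subgroup, invariants separating the cosets of its Frattini subgroup,
and a fusion closure of the central involution.
-/

set_option autoImplicit false

namespace CfsgLib.Mathieu.Code

open Cfsg CfsgLib.Mathieu
open scoped Pointwise

attribute [local irreducible] enc cmpC idC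

/-- The sum of a function over the numbers of the points. -/
def sumOver (f : ℕ → ℕ) : ℕ := ((List.range 24).map f).sum

theorem sumOver_eq (f : ℕ → ℕ) : sumOver f = ∑ q : GolayPt, f (p2i q) := by
  rw [sumOver, ← List.sum_toFinset f List.nodup_range]
  refine Finset.sum_bij' (fun i _ => i2p i) (fun q _ => p2i q) (fun i _ => Finset.mem_univ _)
    (fun q _ => List.mem_toFinset.2 (List.mem_range.2 (p2i_lt q))) (fun i hi => ?_)
    (fun q _ => i2p_p2i q) fun i hi => ?_
  · exact p2i_i2p i (List.mem_range.1 (List.mem_toFinset.1 hi))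
  · rw [p2i_i2p i (List.mem_range.1 (List.mem_toFinset.1 hi))]

/-- The mask of the orbit of `i`. -/
def orbMask (L : List ℕ) (i : ℕ) : ℕ := L.foldl (fun acc x => acc ||| 1 <<< ap x i) 0

theorem testBit_orbMask (L : List ℕ) (i j : ℕ) :
    (orbMask L i).testBit j = true ↔ ∃ x ∈ L, ap x i = j := by
  suffices h : ∀ acc : ℕ, (L.foldl (fun acc x => acc ||| 1 <<< ap x i) acc).testBit j = true ↔
      acc.testBit j = true ∨ ∃ x ∈ L, ap x i = j by
    simpa [orbMask] using h 0
  induction L with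
  | nil => intro acc; simp
  | cons x L ih =>
    intro acc
    rw [List.foldl_cons, ih, Nat.testBit_or, Nat.one_shiftLeft, Nat.testBit_two_pow]
    simp [or_assoc]

/-- The number of points in a mask. -/
def cnt (m : ℕ) : ℕ := sumOver fun j => if m.testBit j then 1 else 0

/-- The weighted number of fixed points of a code. -/
def fixW (W : List ℕ) (x : ℕ) : ℕ := sumOver fun i => if ap x i == i then W.getD i 0 ^ 3 else 0

/-- The class function on elements. -/
def sigC (W : List ℕ) (x : ℕ) : ℕ := (fixW W x * 1000003 + fixW W (cmpC x x)) ^ 2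

/-- The invariant of a coset of `L₀`. -/
def invC (W L₀ : List ℕ) (x : ℕ) : ℕ := (L₀.map fun h => sigC W (cmpC x h)).sum

/-- A certificate. -/
structure Cert where
  pc : List (ℕ × ℕ)
  d : ℕ
  masks : List ℕ
  W : List ℕ
  Iv : List ℕ
  roots : List ℕ
  z : ℕ
  conjs : List (ℕ × ℕ)
  steps : List (Bool × ℕ × ℕ × ℕ)

/-- The subgroup spanned by the bottom of the series is generated by squares and contains all of them. -/
def Cert.chkPhi (c : Cert) : Bool :=
  ((spanR c.pc).all fun x => (spanR (c.pc.drop c.d)).contains (cmpC x x)) &&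
    ((c.pc.drop c.d).all fun t => c.roots.any fun y => (spanR c.pc).contains y && cmpC y y == t.1)

/-- The orbit data is correct. -/
def Cert.chkW (c : Cert) : Bool :=
  (List.range 24).all fun i =>
    c.masks.getD i 0 == orbMask (spanR c.pc) i && c.W.getD i 0 == cnt (c.masks.getD i 0)

/-- At most two cosets share an invariant. -/
def Cert.chkSep (c : Cert) : Bool :=
  ((spanR (c.pc.take c.d)).map (invC c.W (spanR (c.pc.drop c.d))) == c.Iv) &&
    c.Iv.all fun v => decide ((c.Iv.filter fun w => w == v).length ≤ 2)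

/-- The centre is generated by `z`. -/
def Cert.chkZ (c : Cert) : Bool :=
  ((spanR c.pc).filter fun x => c.pc.all fun s => cmpC x s.1 == cmpC s.1 x).all fun x =>
    x == idC || x == c.z

/-- One step of the fusion closure: a product, or a conjugate lying in the Sylow subgroup. -/
def closeStep (L : List ℕ) (conjs : List (ℕ × ℕ)) (known : List ℕ) : Bool × ℕ × ℕ × ℕ → Bool
  | (false, i, j, y) => (decide (i < known.length) && decide (j < known.length)) &&
      y == cmpC (known.getD i 0) (known.getD j 0)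
  | (true, i, k, y) => (decide (i < known.length) && decide (k < conjs.length)) &&
      (y == cmpC (cmpC (conjs.getD k (0, 0)).1 (known.getD i 0)) (conjs.getD k (0, 0)).2 &&
        L.contains y)

/-- Runs the fusion closure and checks that the generators are reached. -/
def closeOK (L : List ℕ) (conjs : List (ℕ × ℕ)) (goal : List ℕ) :
    List ℕ → List (Bool × ℕ × ℕ × ℕ) → Bool
  | known, [] => goal.all fun s => known.contains s
  | known, e :: es => closeStep L conjs known e && closeOK L conjs goal (known ++ [e.2.2.2]) es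

/-- The fusion closure of `z` reaches all generators. -/
def Cert.chkClose (c : Cert) : Bool :=
  closeOK (spanR c.pc) c.conjs (c.pc.map Prod.fst) [c.z] c.steps

/-- All checks. -/
def Cert.check (c : Cert) : Bool :=
  pcOK c.pc && pcOK (c.pc.drop c.d) && c.chkPhi && c.chkW && c.chkSep && c.chkZ && c.chkClose

theorem exists_decomp {pc : List (ℕ × ℕ)} : ∀ d, pcOK pc = true → ∀ g ∈ grpOf pc,
    ∃ h ∈ grpOf (pc.drop d), ∃ t ∈ grpOf pc, code t ∈ spanR (pc.take d) ∧ g = h * t := by
  induction pc with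
  | nil =>
    intro d _ g hg
    exact ⟨g, by simpa using hg, 1, one_mem _, by simp [spanR, code_one], (mul_one g).symm⟩
  | cons s r ih =>
    intro d hpc g hg
    cases d with
    | zero => exact ⟨g, hg, 1, one_mem _, by simp [spanR, code_one], (mul_one g).symm⟩
    | succ d =>
      have hpc' := hpc
      simp only [pcOK, stepOK, Bool.and_eq_true] at hpc'
      have hσ := (code_permOf s.1 s.2 hpc'.2.1.1.1).1
      set σ := permOf s.1 s.2 hpc'.2.1.1.1
      have hσK : σ ∈ grpOf (s :: r) := Subgroup.subset_closure (by simp [hσ])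
      have hg' := ((spanSpec _ hpc).mem_iff g).1 hg
      simp only [spanR, grow, List.mem_append, List.mem_map] at hg'
      simp only [List.drop_succ_cons, List.take_succ_cons, spanR, grow, List.mem_append, List.mem_map]
      rcases hg' with h1 | ⟨x, hx, hxg⟩
      · obtain ⟨h, hh, t, ht, htc, rfl⟩ := ih d hpc'.1 g (((spanSpec r hpc'.1).mem_iff g).2 h1)
        exact ⟨h, hh, t, grpOf_mono _ _ ht, Or.inl htc, rfl⟩
      · obtain ⟨m, rfl⟩ := (spanSpec r hpc'.1).exists_code x hx
        obtain ⟨h, hh, t, ht, htc, rfl⟩ := ih d hpc'.1 m (((spanSpec r hpc'.1).mem_iff m).2 hx)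
        refine ⟨h, hh, t * σ, Subgroup.mul_mem _ (grpOf_mono _ _ ht) hσK,
          Or.inr ⟨code t, htc, by rw [code_mul, hσ]⟩, ?_⟩
        rw [← hσ, ← code_mul] at hxg
        rw [← code_injective hxg, mul_assoc]

theorem grpOf_drop_le (pc : List (ℕ × ℕ)) (d : ℕ) : grpOf (pc.drop d) ≤ grpOf pc :=
  Subgroup.closure_mono fun _ hg => by
    obtain ⟨y, hy, hy'⟩ := List.mem_map.1 hg
    exact List.mem_map.2 ⟨y, List.mem_of_mem_drop hy, hy'⟩

namespace Cert

variable {c : Cert}

attribute [local irreducible] sumOver fixW sigC orbMask cnt invC spanR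

theorem pcOK_all (h : c.check = true) : pcOK c.pc = true ∧ pcOK (c.pc.drop c.d) = true := by
  simp only [check, Bool.and_eq_true] at h
  exact ⟨h.1.1.1.1.1.1, h.1.1.1.1.1.2⟩

theorem sq_mem (h : c.check = true) {x : Equiv.Perm GolayPt} (hx : x ∈ grpOf c.pc) :
    x * x ∈ grpOf (c.pc.drop c.d) := by
  have h' := h
  simp only [check, chkPhi, Bool.and_eq_true, List.all_eq_true, List.contains_eq_mem,
    decide_eq_true_eq] at h'
  rw [(spanSpec _ (pcOK_all h).2).mem_iff, code_mul]
  exact h'.1.1.1.1.2.1 _ (((spanSpec _ (pcOK_all h).1).mem_iff x).1 hx)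

theorem phi_eq (h : c.check = true) :
    grpOf (c.pc.drop c.d) = Subgroup.closure {y : Equiv.Perm GolayPt | ∃ x ∈ grpOf c.pc, x * x = y} := by
  refine le_antisymm ?_ ((Subgroup.closure_le _).2 fun y ⟨x, hx, hxy⟩ => hxy ▸ sq_mem h hx)
  rw [grpOf, Subgroup.closure_le]
  intro g hg
  have h' := h
  simp only [check, chkPhi, Bool.and_eq_true, List.all_eq_true, List.any_eq_true,
    List.contains_eq_mem, decide_eq_true_eq, beq_iff_eq] at h'
  obtain ⟨s, hs, hsg⟩ := List.mem_map.1 hg
  obtain ⟨y, -, hy, hys⟩ := h'.1.1.1.1.2.2 s hs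
  obtain ⟨m, rfl⟩ := (spanSpec _ (pcOK_all h).1).exists_code y hy
  refine Subgroup.subset_closure ⟨m, ((spanSpec _ (pcOK_all h).1).mem_iff m).2 hy, code_injective ?_⟩
  rw [code_mul, hys, hsg]

theorem conj_mem_phi (h : c.check = true) {n : Equiv.Perm GolayPt}
    (hn : n ∈ Subgroup.normalizer (grpOf c.pc : Set (Equiv.Perm GolayPt))) {x : Equiv.Perm GolayPt}
    (hx : x ∈ grpOf (c.pc.drop c.d)) : n * x * n⁻¹ ∈ grpOf (c.pc.drop c.d) := by
  have hle : grpOf (c.pc.drop c.d) ≤ (grpOf (c.pc.drop c.d)).comap (MulAut.conj n).toMonoidHom := by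
    conv_lhs => rw [phi_eq h]
    rw [Subgroup.closure_le]
    rintro _ ⟨m, hm, rfl⟩
    show n * (m * m) * n⁻¹ ∈ grpOf (c.pc.drop c.d)
    rw [show n * (m * m) * n⁻¹ = (n * m * n⁻¹) * (n * m * n⁻¹) by group]
    exact sq_mem h ((Subgroup.mem_normalizer_iff.1 hn m).1 hm)
  exact hle hx

theorem osz_conj (h : c.check = true) {n : Equiv.Perm GolayPt}
    (hn : n ∈ Subgroup.normalizer (grpOf c.pc : Set (Equiv.Perm GolayPt))) (q : GolayPt) :
    c.W.getD (p2i (n q)) 0 = c.W.getD (p2i q) 0 := by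
  have h' := h
  simp only [check, chkW, Bool.and_eq_true, List.all_eq_true, List.mem_range, beq_iff_eq] at h'
  have hs := spanSpec _ (pcOK_all h).1
  have hbit : ∀ p r : GolayPt, (orbMask (spanR c.pc) (p2i p)).testBit (p2i r) = true ↔
      ∃ x ∈ grpOf c.pc, x p = r := by
    intro p r
    rw [testBit_orbMask]
    constructor
    · rintro ⟨a, ha, har⟩
      obtain ⟨x, rfl⟩ := hs.exists_code a ha
      rw [ap_code'] at har
      exact ⟨x, (hs.mem_iff x).2 ha, p2i_injective har⟩
    · rintro ⟨x, hx, rfl⟩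
      exact ⟨code x, (hs.mem_iff x).1 hx, ap_code' x p⟩
  obtain ⟨e1, e2⟩ := h'.1.1.1.2 _ (p2i_lt (n q))
  obtain ⟨f1, f2⟩ := h'.1.1.1.2 _ (p2i_lt q)
  rw [e2, f2, e1, f1, cnt, cnt, sumOver_eq, sumOver_eq]
  refine (Fintype.sum_equiv n _ _ fun r => ?_).symm
  refine if_congr ?_ rfl rfl
  rw [hbit, hbit]
  constructor
  · rintro ⟨x, hx, rfl⟩
    exact ⟨n * x * n⁻¹, (Subgroup.mem_normalizer_iff.1 hn x).1 hx, by simp⟩
  · rintro ⟨x, hx, hxr⟩
    refine ⟨n⁻¹ * x * n, ?_, ?_⟩
    · exact (Subgroup.mem_normalizer_iff''.1 hn x).1 hx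
    · simp [hxr]

theorem fixW_conj (h : c.check = true) {n : Equiv.Perm GolayPt}
    (hn : n ∈ Subgroup.normalizer (grpOf c.pc : Set (Equiv.Perm GolayPt))) (x : Equiv.Perm GolayPt) :
    fixW c.W (code (n * x * n⁻¹)) = fixW c.W (code x) := by
  rw [fixW, fixW, sumOver_eq, sumOver_eq]
  refine (Fintype.sum_equiv n _ _ fun q => ?_).symm
  simp only [ap_code', beq_iff_eq, p2i_injective.eq_iff, osz_conj h hn, Equiv.Perm.mul_apply,
    Equiv.Perm.coe_inv, Equiv.symm_apply_apply, EmbeddingLike.apply_eq_iff_eq]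

theorem sigC_conj (h : c.check = true) {n : Equiv.Perm GolayPt}
    (hn : n ∈ Subgroup.normalizer (grpOf c.pc : Set (Equiv.Perm GolayPt))) (x : Equiv.Perm GolayPt) :
    sigC c.W (code (n * x * n⁻¹)) = sigC c.W (code x) := by
  rw [sigC, sigC, ← code_mul, ← code_mul,
    show n * x * n⁻¹ * (n * x * n⁻¹) = n * (x * x) * n⁻¹ by group, fixW_conj h hn, fixW_conj h hn]

theorem invC_congr (h : c.check = true) (f : Equiv.Perm GolayPt → Equiv.Perm GolayPt)
    (hf : Function.Injective f) (hmem : ∀ x ∈ grpOf (c.pc.drop c.d), f x ∈ grpOf (c.pc.drop c.d))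
    (x : Equiv.Perm GolayPt) (y : Equiv.Perm GolayPt)
    (hxy : ∀ t ∈ grpOf (c.pc.drop c.d), sigC c.W (code (y * f t)) = sigC c.W (code (x * t))) :
    invC c.W (spanR (c.pc.drop c.d)) (code y) = invC c.W (spanR (c.pc.drop c.d)) (code x) := by
  classical
  have hs := spanSpec _ (pcOK_all h).2
  set L₀ := spanR (c.pc.drop c.d)
  rw [invC, invC, ← List.sum_toFinset _ hs.nodup, ← List.sum_toFinset _ hs.nodup]
  let φ : ℕ → ℕ := fun a => if ha : ∃ t, code t = a then code (f ha.choose) else 0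
  have hφ : ∀ t, φ (code t) = code (f t) := fun t => by
    have ha : ∃ t', code t' = code t := ⟨t, rfl⟩
    simp only [φ, dif_pos ha]
    rw [code_injective ha.choose_spec]
  have hmaps : Set.MapsTo φ L₀.toFinset L₀.toFinset := by
    intro a ha
    obtain ⟨t, rfl⟩ := hs.exists_code a (List.mem_toFinset.1 ha)
    rw [Finset.mem_coe, hφ, List.mem_toFinset, ← hs.mem_iff]
    exact hmem t ((hs.mem_iff t).2 (List.mem_toFinset.1 ha))
  have hinj : Set.InjOn φ L₀.toFinset := by
    intro a ha b hb hab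
    obtain ⟨t, rfl⟩ := hs.exists_code a (List.mem_toFinset.1 ha)
    obtain ⟨t', rfl⟩ := hs.exists_code b (List.mem_toFinset.1 hb)
    rw [hφ, hφ] at hab
    rw [hf (code_injective hab)]
  symm
  refine Finset.sum_bij (fun a _ => φ a) (fun a ha => hmaps ha) (fun a ha b hb => hinj ha hb)
    (fun b hb => ?_) fun a ha => ?_
  · obtain ⟨a, ha, hab⟩ := Finset.surjOn_of_injOn_of_card_le φ hmaps hinj le_rfl hb
    exact ⟨a, ha, hab⟩
  · obtain ⟨t, rfl⟩ := hs.exists_code a (List.mem_toFinset.1 ha)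
    rw [hφ, ← code_mul, ← code_mul, hxy t ((hs.mem_iff t).2 (List.mem_toFinset.1 ha))]

theorem invC_conj (h : c.check = true) {n : Equiv.Perm GolayPt}
    (hn : n ∈ Subgroup.normalizer (grpOf c.pc : Set (Equiv.Perm GolayPt))) (x : Equiv.Perm GolayPt) :
    invC c.W (spanR (c.pc.drop c.d)) (code (n * x * n⁻¹)) =
      invC c.W (spanR (c.pc.drop c.d)) (code x) :=
  invC_congr h (fun t => n * t * n⁻¹) (fun _ _ e => mul_left_cancel (mul_right_cancel e))
    (fun _ ht => conj_mem_phi h hn ht) x _ fun t _ => by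
      show sigC c.W (code (n * x * n⁻¹ * (n * t * n⁻¹))) = _
      rw [show n * x * n⁻¹ * (n * t * n⁻¹) = n * (x * t) * n⁻¹ by group, sigC_conj h hn]

theorem invC_mul (h : c.check = true) (x : Equiv.Perm GolayPt) {u : Equiv.Perm GolayPt}
    (hu : u ∈ grpOf (c.pc.drop c.d)) :
    invC c.W (spanR (c.pc.drop c.d)) (code (x * u)) = invC c.W (spanR (c.pc.drop c.d)) (code x) :=
  invC_congr h (fun t => u⁻¹ * t) (mul_right_injective u⁻¹)
    (fun _ ht => Subgroup.mul_mem _ (Subgroup.inv_mem _ hu) ht) x _ fun t _ => by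
      show sigC c.W (code (x * u * (u⁻¹ * t))) = _
      rw [mul_assoc, mul_inv_cancel_left]

/-- An odd-order element of the normalizer fixes every coset of the Frattini subgroup. -/
theorem coset_fixed (h : c.check = true) {n : Equiv.Perm GolayPt}
    (hn : n ∈ Subgroup.normalizer (grpOf c.pc : Set (Equiv.Perm GolayPt))) (ho : Odd (orderOf n))
    {x : Equiv.Perm GolayPt} (hx : x ∈ grpOf c.pc) :
    x⁻¹ * (n * x * n⁻¹) ∈ grpOf (c.pc.drop c.d) := by
  have h' := h
  simp only [check, chkSep, Bool.and_eq_true, List.all_eq_true, beq_iff_eq, decide_eq_true_eq] at h'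
  obtain ⟨hIv, hcls⟩ := h'.1.1.2
  set Φ := grpOf (c.pc.drop c.d)
  set I := invC c.W (spanR (c.pc.drop c.d))
  -- representatives
  have hrep : ∀ y ∈ grpOf c.pc, ∃ u ∈ Φ, ∃ t, code t ∈ spanR (c.pc.take c.d) ∧ y = t * u ∧
      I (code t) = I (code y) := by
    intro y hy
    obtain ⟨u, hu, t, ht, htc, rfl⟩ := exists_decomp c.d (pcOK_all h).1 y hy
    have hu' := conj_mem_phi h (Subgroup.le_normalizer (Subgroup.inv_mem _ ht)) hu
    rw [inv_inv] at hu'
    refine ⟨t⁻¹ * u * t, hu', t, htc, by group, ?_⟩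
    rw [show u * t = t * (t⁻¹ * u * t) by group]
    exact (invC_mul h t hu').symm
  let y := n * x * n⁻¹
  have hy : y ∈ grpOf c.pc := (Subgroup.mem_normalizer_iff.1 hn x).1 hx
  let w := n * y * n⁻¹
  have hw : w ∈ grpOf c.pc := (Subgroup.mem_normalizer_iff.1 hn y).1 hy
  obtain ⟨ux, hux, tx, htx, hxe, hIx⟩ := hrep x hx
  obtain ⟨uy, huy, ty, hty, hye, hIy⟩ := hrep y hy
  obtain ⟨uw, huw, tw, htw, hwe, hIw⟩ := hrep w hw
  have hyI : I (code ty) = I (code tx) := by rw [hIy, hIx]; exact invC_conj h hn x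
  have hwI : I (code tw) = I (code tx) := by
    rw [hIw, hIx]; exact (invC_conj h hn y).trans (invC_conj h hn x)
  set v := I (code tx)
  set Fl := (spanR (c.pc.take c.d)).filter fun t => I t == v with hFl
  have hlen : Fl.length ≤ 2 := by
    have h2 := hcls v (hIv ▸ List.mem_map.2 ⟨_, htx, rfl⟩)
    rw [← hIv, List.filter_map, List.length_map] at h2
    exact h2
  have hm : code tx ∈ Fl ∧ code ty ∈ Fl ∧ code tw ∈ Fl := by
    simp only [hFl, List.mem_filter, beq_iff_eq]
    exact ⟨⟨htx, rfl⟩, ⟨hty, hyI⟩, ⟨htw, hwI⟩⟩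
  have hpig : tx = ty ∨ ty = tw ∨ tx = tw := by
    rcases Fl with _ | ⟨a, _ | ⟨b, _ | ⟨e, l⟩⟩⟩
    · simp at hm
    · simp only [List.mem_singleton] at hm
      exact Or.inl (code_injective (hm.1.trans hm.2.1.symm))
    · simp only [List.mem_cons, List.not_mem_nil, or_false] at hm
      obtain ⟨h1 | h1, h2 | h2, h3 | h3⟩ := hm <;>
        first
        | exact Or.inl (code_injective (h1.trans h2.symm))
        | exact Or.inr (Or.inl (code_injective (h2.trans h3.symm)))
        | exact Or.inr (Or.inr (code_injective (h1.trans h3.symm)))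
    · simp at hlen
  have hrel : ∀ {a b t ua ub : Equiv.Perm GolayPt}, a = t * ua → b = t * ub → ua ∈ Φ → ub ∈ Φ →
      a⁻¹ * b ∈ Φ := by
    intro a b t ua ub ha hb hua hub
    rw [ha, hb, show (t * ua)⁻¹ * (t * ub) = ua⁻¹ * ub by group]
    exact Φ.mul_mem (Φ.inv_mem hua) hub
  rcases hpig with e | e | e
  · exact hrel hxe (e ▸ hye) hux huy
  · have h1 : y⁻¹ * w ∈ Φ := hrel hye (e ▸ hwe) huy huw
    have h2 := conj_mem_phi h (Subgroup.inv_mem _ hn) h1
    rwa [show n⁻¹ * (y⁻¹ * w) * n⁻¹⁻¹ = x⁻¹ * y by simp only [w, y]; group] at h2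
  · have h1 : x⁻¹ * w ∈ Φ := hrel hxe (e ▸ hwe) hux huw
    have h1' : x⁻¹ * ((n * n) * x * (n * n)⁻¹) ∈ Φ := by
      simp only [w, y] at h1
      rwa [show n * n * x * (n * n)⁻¹ = n * (n * x * n⁻¹) * n⁻¹ by group]
    have hpow : ∀ k : ℕ, x⁻¹ * ((n * n) ^ k * x * ((n * n) ^ k)⁻¹) ∈ Φ := by
      intro k
      induction k with
      | zero => simp
      | succ k ih =>
        have h2 := conj_mem_phi h (Subgroup.pow_mem _ (Subgroup.mul_mem _ hn hn) 1) ih
        rw [pow_one] at h2
        have h3 := Φ.mul_mem h1' h2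
        rwa [show x⁻¹ * (n * n * x * (n * n)⁻¹) *
            (n * n * (x⁻¹ * ((n * n) ^ k * x * ((n * n) ^ k)⁻¹)) * (n * n)⁻¹) =
          x⁻¹ * ((n * n) ^ (k + 1) * x * ((n * n) ^ (k + 1))⁻¹) by generalize n * n = q; rw [pow_succ']; group] at h3
    obtain ⟨j, hj⟩ := ho
    have := hpow (j + 1)
    rwa [show (n * n) ^ (j + 1) = n by
      rw [← sq, ← pow_mul, show 2 * (j + 1) = orderOf n + 1 by omega, pow_succ, pow_orderOf_eq_one,
        one_mul]] at this

theorem phi_le_frattini (h : c.check = true) :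
    (grpOf (c.pc.drop c.d)).subgroupOf (grpOf c.pc) ≤ frattini (grpOf c.pc) := by
  have : Fact (Nat.Prime 2) := ⟨Nat.prime_two⟩
  intro x hx
  have hle : grpOf (c.pc.drop c.d) ≤ (frattini (grpOf c.pc)).map (grpOf c.pc).subtype := by
    rw [phi_eq h, Subgroup.closure_le]
    rintro _ ⟨m, hm, rfl⟩
    refine ⟨⟨m, hm⟩ ^ 2, PGroup.pow_prime_mem_frattini (isPGroup_grpOf (pcOK_all h).1) _, ?_⟩
    simp [sq]
  obtain ⟨y, hy, hyx⟩ := hle (Subgroup.mem_subgroupOf.1 hx)
  rwa [← Subtype.ext (show (y : Equiv.Perm GolayPt) = x from hyx)]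

theorem odd_centralizes (h : c.check = true) {n : Equiv.Perm GolayPt}
    (hn : n ∈ Subgroup.normalizer (grpOf c.pc : Set (Equiv.Perm GolayPt))) (ho : Odd (orderOf n))
    {x : Equiv.Perm GolayPt} (hx : x ∈ grpOf c.pc) : n * x * n⁻¹ = x := by
  have : Fact (Nat.Prime 2) := ⟨Nat.prime_two⟩
  let ν := (grpOf c.pc).normalizerMonoidHom
  have h1 : ν ⟨n, hn⟩ = 1 := by
    refine PGroup.aut_eq_one_of_trivial_frattini (isPGroup_grpOf (pcOK_all h).1) (p := 2) ?_ fun y => ?_
    · refine Nat.coprime_two_right.2 (Odd.of_dvd_nat ?_ (orderOf_map_dvd ν _))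
      rwa [Subgroup.orderOf_mk]
    · refine phi_le_frattini h (Subgroup.mem_subgroupOf.2 ?_)
      have h2 := conj_mem_phi h (Subgroup.le_normalizer y.2) (coset_fixed h hn ho y.2)
      show n * (y : Equiv.Perm GolayPt) * n⁻¹ * (y : Equiv.Perm GolayPt)⁻¹ ∈ _
      rwa [mul_inv_cancel_left] at h2
  exact congrArg (fun σ : MulAut (grpOf c.pc) => ((σ ⟨x, hx⟩ : grpOf c.pc) : Equiv.Perm GolayPt)) h1

theorem closed_top (h : c.check = true) {G : Subgroup (Equiv.Perm GolayPt)}
    (hconj : ∀ p ∈ c.conjs, ∃ g ∈ G, code g = p.1 ∧ code g⁻¹ = p.2)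
    {T : Subgroup G} (hT : T ≠ ⊥) (hTS : ∀ x ∈ T, (x : Equiv.Perm GolayPt) ∈ grpOf c.pc)
    (hSG : grpOf c.pc ≤ G)
    (hcl : ∀ g x : G, x ∈ T → ((g * x * g⁻¹ : G) : Equiv.Perm GolayPt) ∈ grpOf c.pc → g * x * g⁻¹ ∈ T) :
    ∀ x : G, (x : Equiv.Perm GolayPt) ∈ grpOf c.pc → x ∈ T := by
  have : Fact (Nat.Prime 2) := ⟨Nat.prime_two⟩
  have h' := h
  simp only [check, chkZ, chkClose, Bool.and_eq_true, List.all_eq_true, List.mem_filter,
    Bool.or_eq_true, beq_iff_eq] at h'
  have hs := spanSpec _ (pcOK_all h).1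
  set S' : Subgroup G := (grpOf c.pc).subgroupOf G
  have hS' : IsPGroup 2 S' :=
    (isPGroup_grpOf (pcOK_all h).1).comap_subtype
  obtain ⟨w, hwT, hw1, hwc⟩ := Fus.TwoSimple.exists_central_mem hS' (T := T)
    (fun x hx => Subgroup.mem_subgroupOf.2 (hTS x hx)) hT fun s hs x hx => by
      refine hcl s x hx ?_
      exact Subgroup.mul_mem _ (Subgroup.mul_mem _ hs (hTS x hx)) (Subgroup.inv_mem _ hs)
  have hwz : code (w : Equiv.Perm GolayPt) = c.z := by
    refine (h'.1.2 (code (w : Equiv.Perm GolayPt)) ⟨(hs.mem_iff _).1 (hTS w hwT), fun s hsm => ?_⟩).resolve_left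
      fun e => hw1 (Subtype.ext (code_injective (e.trans code_one.symm)))
    obtain ⟨σ, hσ⟩ : ∃ σ, code σ = s.1 ∧ σ ∈ grpOf c.pc := by
      obtain ⟨σ, hσ⟩ : ∃ σ, code σ = s.1 := by
        clear * - hsm h
        have hp := (pcOK_all h).1
        generalize c.pc = l at hp hsm
        induction l with
        | nil => simp at hsm
        | cons a l ih =>
          simp only [pcOK, stepOK, Bool.and_eq_true] at hp
          rcases List.mem_cons.1 hsm with rfl | hsm'
          · exact ⟨_, (code_permOf _ _ hp.2.1.1.1).1⟩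
          · exact ih hp.1 hsm'
      exact ⟨σ, hσ, Subgroup.subset_closure (by simp only [Set.mem_setOf_eq, hσ]; exact List.mem_map.2 ⟨s, hsm, rfl⟩)⟩
    rw [← hσ.1, ← code_mul, ← code_mul]
    exact congrArg code (congrArg Subtype.val (hwc ⟨σ, hSG hσ.2⟩ hσ.2)).symm
  have key : ∀ (es : List (Bool × ℕ × ℕ × ℕ)) (known : List ℕ),
      (∀ a ∈ known, ∃ x ∈ T, code (x : Equiv.Perm GolayPt) = a) →
      closeOK (spanR c.pc) c.conjs (c.pc.map Prod.fst) known es = true →
      ∀ s ∈ c.pc.map Prod.fst, ∃ x ∈ T, code (x : Equiv.Perm GolayPt) = s := by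
    intro es
    induction es with
    | nil =>
      intro known hk hok s hs
      simp only [closeOK, List.all_eq_true, List.contains_eq_mem, decide_eq_true_eq] at hok
      exact hk s (hok s hs)
    | cons e es ih =>
      intro known hk hok
      simp only [closeOK, Bool.and_eq_true] at hok
      refine ih _ (fun a ha => ?_) hok.2
      rcases List.mem_append.1 ha with ha | ha
      · exact hk a ha
      rw [List.mem_singleton] at ha
      subst ha
      have hget : ∀ i, i < known.length → ∃ x ∈ T, code (x : Equiv.Perm GolayPt) = known.getD i 0 :=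
        fun i hi => hk _ (by rw [List.getD_eq_getElem _ _ hi]; exact List.getElem_mem hi)
      obtain ⟨⟨b, i, j, a⟩, he⟩ : ∃ q, e = q := ⟨e, rfl⟩
      subst he
      have hst := hok.1
      cases b with
      | false =>
        simp only [closeStep, Bool.and_eq_true, decide_eq_true_eq, beq_iff_eq] at hst
        obtain ⟨x, hx, hxc⟩ := hget i hst.1.1
        obtain ⟨y, hy, hyc⟩ := hget j hst.1.2
        exact ⟨x * y, T.mul_mem hx hy, by rw [Subgroup.coe_mul, code_mul, hxc, hyc]; exact hst.2.symm⟩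
      | true =>
        simp only [closeStep, Bool.and_eq_true, decide_eq_true_eq, beq_iff_eq,
          List.contains_eq_mem] at hst
        obtain ⟨x, hx, hxc⟩ := hget i hst.1.1
        obtain ⟨g, hg, hgc, hgi⟩ := hconj (c.conjs.getD j (0, 0))
          (by rw [List.getD_eq_getElem _ _ hst.1.2]; exact List.getElem_mem hst.1.2)
        have hcode : code (((⟨g, hg⟩ * x * ⟨g, hg⟩⁻¹ : G)) : Equiv.Perm GolayPt) = a := by
          show code (g * (x : Equiv.Perm GolayPt) * g⁻¹) = a
          rw [code_mul, code_mul, hgc, hgi, hxc]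
          exact hst.2.1.symm
        refine ⟨⟨g, hg⟩ * x * ⟨g, hg⟩⁻¹, hcl ⟨g, hg⟩ x hx ((hs.mem_iff _).2 ?_), hcode⟩
        rw [hcode]
        exact hst.2.2
  have hgen := key c.steps [c.z] (fun a ha => ⟨w, hwT, hwz.trans (List.mem_singleton.1 ha).symm⟩) h'.2
  intro x hx
  have hle : grpOf c.pc ≤ T.map G.subtype := by
    rw [grpOf, Subgroup.closure_le]
    intro g hg
    obtain ⟨y, hy, hyc⟩ := hgen _ hg
    exact ⟨y, hy, code_injective hyc⟩
  obtain ⟨y, hy, hyx⟩ := hle hx
  rwa [← Subtype.ext (show (y : Equiv.Perm GolayPt) = x from hyx)]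

/-- The `2`-fusion system of a group with a certificate is simple. -/
theorem isSimple (h : c.check = true) {G : Subgroup (Equiv.Perm GolayPt)}
    (hpc : ∀ p ∈ c.pc, ∃ g ∈ G, code g = p.1 ∧ code g⁻¹ = p.2)
    (hconj : ∀ p ∈ c.conjs, ∃ g ∈ G, code g = p.1 ∧ code g⁻¹ = p.2)
    {m : ℕ} (hcard : Nat.card G = 2 ^ c.pc.length * m) (hm : Odd m) (hlen : c.pc ≠ [])
    (S : Sylow 2 G) : (Cfsg.groupFusionSystem (S : Subgroup G)).IsSimple 2 := by
  have : Fact (Nat.Prime 2) := ⟨Nat.prime_two⟩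
  have hSG : grpOf c.pc ≤ G := by
    rw [grpOf, Subgroup.closure_le]
    intro g hg
    obtain ⟨p, hp, hpg⟩ := List.mem_map.1 hg
    obtain ⟨g', hg', hc', -⟩ := hpc p hp
    rwa [code_injective (show code g = code g' by rw [hc', hpg])]
  have hcard' : Nat.card ((grpOf c.pc).subgroupOf G) = 2 ^ c.pc.length := by
    rw [Nat.card_congr (Subgroup.subgroupOfEquivOfLe hSG).toEquiv, (spanSpec _ (pcOK_all h).1).card]
  have hval : (Nat.card G).factorization 2 = c.pc.length := by
    rw [hcard, Nat.factorization_mul (pow_ne_zero _ two_ne_zero) (by rintro rfl; simp at hm)]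
    simp [Nat.prime_two.factorization_pow, Nat.factorization_eq_zero_of_not_dvd hm.not_two_dvd_nat]
  let S₀ : Sylow 2 G := Sylow.ofCard _ (by rw [hcard', hval])
  refine Fus.TwoSimple.isSimple_of_local S₀ ?_ ?_ ?_ S
  · intro hbot
    have hcard0 : Nat.card (S₀ : Subgroup G) = 2 ^ c.pc.length := hcard'
    rw [hbot, Subgroup.card_bot] at hcard0
    exact hlen (List.eq_nil_of_length_eq_zero (by
      by_contra hne
      exact absurd hcard0 (ne_of_lt (Nat.one_lt_pow hne one_lt_two))))
  · intro g hg ho x hx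
    refine Subtype.ext (odd_centralizes h ?_ (by rwa [Subgroup.orderOf_coe]) hx)
    refine Subgroup.mem_normalizer_iff.2 fun y => ?_
    constructor
    · intro hy
      exact (Subgroup.mem_normalizer_iff.1 hg ⟨y, hSG hy⟩).1 hy
    · intro hy
      have hyG : y ∈ G := by
        have := G.mul_mem (G.mul_mem (G.inv_mem g.2) (hSG hy)) g.2
        simpa [mul_assoc] using this
      exact (Subgroup.mem_normalizer_iff.1 hg ⟨y, hyG⟩).2 hy
  · intro T hTS hT hcl x hx
    exact closed_top h hconj hT (fun y hy => hTS hy) hSG (fun g y hy hgy => hcl g y hy hgy) x hx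

end Cert

end CfsgLib.Mathieu.Code
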