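import Cfsg.Agent.Mathieu.FusionTests

/-!
A certificate for the `2`-fusion system of a Mathieu group.
-/

set_option autoImplicit false

namespace CfsgLib.Mathieu.Code

open Cfsg CfsgLib.Mathieu

/-- The certificate for the fusion system of `M22`. -/
def certM22 : Cert where
  pc := [(984811896368526027902876845265194432, 984811896368526027902876845265194432),
    (978229108268184180977502683198470176, 980750414604844444015364155442118688),
    (978232879086441799526177284869434624, 978232879086441799526177284869434624),
    (983549226077164120449428821207437728, 983537834557579535176097994224417344),
    (984804292948831476836961573228943584, 984804292948831476836961573228943584),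
    (984806823288735101514964346924480608, 984806823288735101514964346924480608),
    (984800476376245823918946237680985664, 984800476376245823918946237680985664)]
  d := 3
  masks := [1, 1441742, 1441742, 1441742, 48, 48, 1441742, 1441742, 1441742, 1441742, 1441742, 1441742, 1441742, 1441742, 1441742, 1441742, 1441742, 6946816, 1441742, 6946816, 1441742, 6946816, 6946816, 8388608]
  W := [1, 16, 16, 16, 2, 2, 16, 16, 16, 16, 16, 16, 16, 16, 16, 16, 16, 4, 16, 4, 16, 4, 4, 1]
  Iv := [5407635339389129212928, 2152237608079206302720, 1074276922359547012096, 2181863248254420198400, 603492244671448064, 5184188929721344, 64001536009216, 270402762247054336]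
  roots := [980755498822015926197371418814460992, 978225268236062632739846898489531456, 984801680957070531537715183773829312, 983545512190296839587945666796210240]
  z := 984810632433468833829208837308427744
  conjs := [(957299446331687720794193293023974688, 962050713350899554095609081371397824),
    (980259731892844875909311018643731552, 966309398240226021892554736404576576),
    (968831303187907949557625244405532288, 973962819008733680770136463801290816)]
  steps := [(true, 0, 0, 984795341472366346341846312132136992),
    (false, 0, 1, 984806756521764575121331939741940192),
    (true, 2, 1, 984803024044602281446792238047901184),
    (true, 0, 2, 978241746458226444833005867658250464),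
    (false, 1, 4, 980744094910979718644570381029363968),
    (false, 5, 1, 980761875422008216500370354613917952),
    (false, 6, 3, 980737786337188660784574648874519040),
    (false, 7, 1, 980759291875070242383962062541882880),
    (false, 8, 4, 984808014279007942733079508646463104),
    (false, 9, 2, 984811896368526027902876845265194432),
    (false, 1, 3, 984801680957070531537715183773829312),
    (false, 11, 1, 984815711694528072641956329919356096),
    (false, 12, 4, 978225268236062632739846898489531456),
    (false, 13, 1, 978230385820942729755304262368529472),
    (false, 14, 3, 978229108268184180977502683198470176),
    (false, 0, 4, 978232879086441799526177284869434624),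
    (false, 11, 4, 980737759139720345313891111608306016),
    (false, 17, 1, 980759341342841777372854977961428320),
    (false, 18, 3, 980744130783624021779094765266260064),
    (false, 19, 4, 983549226077164120449428821207437728),
    (false, 15, 1, 978239198764604640668953934463309856),
    (false, 21, 4, 984804292948831476836961573228943584),
    (false, 12, 3, 984806823288735101514964346924480608),
    (false, 3, 4, 978222718067835655608053118865323456),
    (false, 24, 1, 978237980585852959355657388834489792),
    (false, 25, 3, 978241788502399092536124542498900064),
    (false, 26, 2, 978235410663982640741308582074754432),
    (false, 27, 4, 984800476376245823918946237680985664)]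

theorem certM22_check : certM22.check = true := by decide +kernel

theorem certM22_pc : ∀ p ∈ certM22.pc, ∃ g ∈ Cfsg.Spor.M22, code g = p.1 ∧ code g⁻¹ = p.2 :=
  rep_of_check inM22 (fun _ h => inM22_mem h) _ (by decide +kernel)

theorem certM22_conjs : ∀ p ∈ certM22.conjs, ∃ g ∈ Cfsg.Spor.M22, code g = p.1 ∧ code g⁻¹ = p.2 :=
  rep_of_check inM22 (fun _ h => inM22_mem h) _ (by decide +kernel)

end CfsgLib.Mathieu.Code
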