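import Cfsg.Agent.Mathieu.FusionM22

/-!
Checks on the Sylow `2`-subgroup of `M22`: intrinsic invariants of the cosets of its Frattini subgroup.
-/

set_option autoImplicit false
set_option maxRecDepth 100000
set_option Elab.async false

namespace CfsgLib.Mathieu.Code.McLFusion

open Cfsg CfsgLib.Mathieu CfsgLib.Mathieu.Code

attribute [local irreducible] enc cmpC idC

/-- the number of listed elements commuting with a code -/
def centC (L : List ℕ) (x : ℕ) : ℕ := (L.filter fun y => cmpC x y == cmpC y x).length

/-- an invariant of an element -/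
def sigK (L : List ℕ) (x : ℕ) : ℕ :=
  (centC L x * 1000 + centC L (cmpC x x) + if cmpC x x == idC then 1000000 else 0) ^ 2

/-- the invariant of a coset -/
def invK (L L₀ : List ℕ) (x : ℕ) : ℕ := (L₀.map fun u => sigK L (cmpC x u)).sum

/-- all elements of the Sylow subgroup -/
def allK : List ℕ := spanR certM22.pc

/-- the elements of its Frattini subgroup -/
def phiK : List ℕ := spanR (certM22.pc.drop certM22.d)

/-- representatives of the cosets -/
def repK : List ℕ := spanR (certM22.pc.take certM22.d)

/-- the invariants of the eight cosets -/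
def ivK : List ℕ := [13336516870144, 8262193315840, 1032208384, 8262209798144, 8262193315840,
  4145315840, 1032208384, 1032208384]

/-- three cosets with rare invariants that generate -/
def picks : List ℕ := [1, 3, 4]

/-- the list spanned by the Frattini subgroup and the three cosets -/
def grown : List ℕ := picks.foldl (fun L i => grow L (repK.getD i 0)) phiK

theorem iv_ok_0 : Nat.beq (invK allK phiK (repK.getD 0 0)) (ivK.getD 0 0) = true := by decide +kernel
theorem iv_ok_1 : Nat.beq (invK allK phiK (repK.getD 1 0)) (ivK.getD 1 0) = true := by decide +kernel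
theorem iv_ok_2 : Nat.beq (invK allK phiK (repK.getD 2 0)) (ivK.getD 2 0) = true := by decide +kernel
theorem iv_ok_3 : Nat.beq (invK allK phiK (repK.getD 3 0)) (ivK.getD 3 0) = true := by decide +kernel
theorem iv_ok_4 : Nat.beq (invK allK phiK (repK.getD 4 0)) (ivK.getD 4 0) = true := by decide +kernel
theorem iv_ok_5 : Nat.beq (invK allK phiK (repK.getD 5 0)) (ivK.getD 5 0) = true := by decide +kernel
theorem iv_ok_6 : Nat.beq (invK allK phiK (repK.getD 6 0)) (ivK.getD 6 0) = true := by decide +kernel
theorem iv_ok_7 : Nat.beq (invK allK phiK (repK.getD 7 0)) (ivK.getD 7 0) = true := by decide +kernel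

theorem iv_ok : (repK.map (invK allK phiK) == ivK) = true := by
  have hl : repK.length = 8 := by decide +kernel
  have hv : ivK.length = 8 := rfl
  rw [beq_iff_eq]
  refine List.ext_getElem (by rw [List.length_map, hl, hv]) fun i h1 h2 => ?_
  rw [List.getElem_map, ← List.getD_eq_getElem _ 0, ← List.getD_eq_getElem _ 0]
  have hi : i < 8 := by rwa [hv] at h2
  interval_cases i
  · exact Nat.eq_of_beq_eq_true iv_ok_0
  · exact Nat.eq_of_beq_eq_true iv_ok_1
  · exact Nat.eq_of_beq_eq_true iv_ok_2
  · exact Nat.eq_of_beq_eq_true iv_ok_3
  · exact Nat.eq_of_beq_eq_true iv_ok_4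
  · exact Nat.eq_of_beq_eq_true iv_ok_5
  · exact Nat.eq_of_beq_eq_true iv_ok_6
  · exact Nat.eq_of_beq_eq_true iv_ok_7

theorem picks_ok : (picks.all fun i => i.blt 8 &&
    decide ((ivK.filter fun w => w == ivK.getD i 0).length ≤ 2)) = true := by decide +kernel

theorem grown_ok : (certM22.pc.all fun s => grown.contains s.1) = true := by decide +kernel

theorem rep_sub_ok : (repK.all fun a => allK.contains a) = true := by decide +kernel

end CfsgLib.Mathieu.Code.McLFusion
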