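import Cfsg.Agent.Mathieu.Small
import Cfsg.Agent.Mathieu.FusionMcLCheck

/-!
A group of order 898128000 containing `M22` has a simple `2`-fusion system: the Sylow subgroup of
`M22` is one of the group, has no nontrivial automorphism of odd order, and is generated by the
fusion of its central involution inside `M22`.
-/

set_option autoImplicit false
set_option maxRecDepth 100000

namespace CfsgLib.Mathieu.Code.McLFusion

open Cfsg CfsgLib.Mathieu CfsgLib.Mathieu.Code

attribute [local irreducible] enc cmpC idC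

attribute [local irreducible] spanR invK sigK centC

local notation "K" => grpOf certM22.pc

/-- the Frattini subgroup -/
noncomputable def phi : Subgroup K := (grpOf (certM22.pc.drop certM22.d)).subgroupOf K

theorem phi_closure : phi = Subgroup.closure (Set.range fun x : K => x * x) := by
  refine Subgroup.map_injective (Subgroup.subtype_injective K) ?_
  rw [phi, Subgroup.map_subgroupOf_eq_of_le (grpOf_drop_le _ _), MonoidHom.map_closure,
    Cert.phi_eq certM22_check]
  congr 1
  ext y
  constructor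
  · rintro ⟨x, hx, rfl⟩
    exact ⟨⟨x, hx⟩ * ⟨x, hx⟩, ⟨⟨x, hx⟩, rfl⟩, rfl⟩
  · rintro ⟨_, ⟨x, rfl⟩, rfl⟩
    exact ⟨x, x.2, rfl⟩

theorem aut_phi (ν : MulAut K) {x : K} (hx : x ∈ phi) : ν x ∈ phi := by
  suffices phi ≤ phi.comap ν.toMonoidHom from this hx
  conv_lhs => rw [phi_closure]
  rw [Subgroup.closure_le]
  rintro _ ⟨y, rfl⟩
  show ν (y * y) ∈ phi
  rw [map_mul, phi_closure]
  exact Subgroup.subset_closure ⟨ν y, rfl⟩

instance phi_normal : phi.Normal := ⟨fun _ hn g => aut_phi (MulAut.conj g) hn⟩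

theorem allK_spec : SpanSpec certM22.pc := spanSpec _ (Cert.pcOK_all certM22_check).1

theorem phiK_spec : SpanSpec (certM22.pc.drop certM22.d) :=
  spanSpec _ (Cert.pcOK_all certM22_check).2

theorem centC_eq (x : K) :
    centC allK (code (x : Equiv.Perm GolayPt)) = Nat.card {y : K // x * y = y * x} := by
  classical
  have hs := allK_spec
  unfold centC
  rw [← List.toFinset_card_of_nodup ((show allK.Nodup from hs.nodup).filter _),
    ← Nat.card_eq_finsetCard]
  refine (Nat.card_congr (Equiv.ofBijective (fun y => ⟨code (y.1 : Equiv.Perm GolayPt),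
    List.mem_toFinset.2 (List.mem_filter.2 ⟨(hs.mem_iff _).1 y.1.2, ?hmem⟩)⟩) ⟨?hinj, ?hsur⟩)).symm
  case hmem => rw [beq_iff_eq, ← code_mul, ← code_mul, ← Subgroup.coe_mul, ← Subgroup.coe_mul, y.2]
  case hinj =>
    intro a b hab
    exact Subtype.ext (Subtype.ext (code_injective (congrArg Subtype.val hab)))
  case hsur =>
    rintro ⟨a, ha⟩
    obtain ⟨ha1, ha2⟩ := List.mem_filter.1 (List.mem_toFinset.1 ha)
    obtain ⟨g, rfl⟩ := hs.exists_code a ha1
    rw [beq_iff_eq, ← code_mul, ← code_mul] at ha2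
    exact ⟨⟨⟨g, (hs.mem_iff g).2 ha1⟩, Subtype.ext (code_injective ha2)⟩, rfl⟩

theorem sigK_aut (ν : MulAut K) (x : K) :
    sigK allK (code (ν x : Equiv.Perm GolayPt)) = sigK allK (code (x : Equiv.Perm GolayPt)) := by
  have hc : ∀ y : K, centC allK (code (ν y : Equiv.Perm GolayPt)) =
      centC allK (code (y : Equiv.Perm GolayPt)) := fun y => by
    rw [centC_eq, centC_eq]
    exact (Nat.card_congr (ν.toEquiv.subtypeEquiv fun z => by
      show y * z = z * y ↔ ν y * ν z = ν z * ν y
      rw [← map_mul, ← map_mul, ν.injective.eq_iff])).symm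
  have hid : ∀ y : K, (code (y : Equiv.Perm GolayPt) == idC) = decide (y = 1) := fun y => by
    rw [← code_one, beq_eq_decide, decide_eq_decide, code_injective.eq_iff, OneMemClass.coe_eq_one]
  unfold sigK
  rw [← code_mul, ← code_mul, ← Subgroup.coe_mul, ← Subgroup.coe_mul, ← map_mul, hc, hc, hid, hid]
  simp only [EmbeddingLike.map_eq_one_iff]

theorem invK_eq [Fintype phi] (x : K) :
    invK allK phiK (code (x : Equiv.Perm GolayPt)) =
      ∑ u : phi, sigK allK (code ((x * u : K) : Equiv.Perm GolayPt)) := by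
  classical
  have hs := phiK_spec
  unfold invK
  rw [← List.sum_toFinset _ (show phiK.Nodup from hs.nodup)]
  symm
  refine Finset.sum_bij (fun (u : phi) _ => code ((u : K) : Equiv.Perm GolayPt))
    (fun u _ => List.mem_toFinset.2 ((hs.mem_iff _).1 (Subgroup.mem_subgroupOf.1
      (show (u : K) ∈ phi from u.2))))
    (fun (a : phi) _ b _ hab => Subtype.ext (Subtype.ext (code_injective hab))) (fun a ha => ?_)
    fun (u : phi) _ => by simp only [Subgroup.coe_mul, code_mul]
  obtain ⟨g, rfl⟩ := hs.exists_code a (List.mem_toFinset.1 ha)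
  have hg := (hs.mem_iff g).2 (List.mem_toFinset.1 ha)
  exact ⟨⟨⟨g, grpOf_drop_le _ _ hg⟩, Subgroup.mem_subgroupOf.2 hg⟩, Finset.mem_univ _, rfl⟩

theorem invK_aut (ν : MulAut K) (x : K) :
    invK allK phiK (code (ν x : Equiv.Perm GolayPt)) =
      invK allK phiK (code (x : Equiv.Perm GolayPt)) := by
  have := Fintype.ofFinite phi
  rw [invK_eq, invK_eq]
  let e : phi ≃ phi := ν.toEquiv.subtypeEquiv fun z =>
    ⟨aut_phi ν, fun h => by simpa using aut_phi ν⁻¹ h⟩
  refine (Fintype.sum_equiv e _ _ fun u => ?_).symm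
  show _ = sigK allK (code ((ν x * ν (u : K) : K) : Equiv.Perm GolayPt))
  rw [← map_mul, sigK_aut]

theorem invK_congr {x y : K} (h : (x : K ⧸ phi) = y) :
    invK allK phiK (code (x : Equiv.Perm GolayPt)) =
      invK allK phiK (code (y : Equiv.Perm GolayPt)) := by
  have := Fintype.ofFinite phi
  rw [invK_eq, invK_eq]
  refine Fintype.sum_equiv (Equiv.mulLeft (⟨y⁻¹ * x, QuotientGroup.eq.1 h.symm⟩ : phi)) _ _
    fun u => ?_
  simp [mul_assoc]

theorem exists_rep (y : K) : ∃ t : K, code (t : Equiv.Perm GolayPt) ∈ repK ∧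
    (t : K ⧸ phi) = y := by
  obtain ⟨h, hh, t, ht, htc, he⟩ := exists_decomp certM22.d (Cert.pcOK_all certM22_check).1 y y.2
  refine ⟨⟨t, ht⟩, htc, ?_⟩
  let h' : K := ⟨h, grpOf_drop_le _ _ hh⟩
  have he' : y = h' * ⟨t, ht⟩ := Subtype.ext he
  rw [he', QuotientGroup.mk_mul,
    (QuotientGroup.eq_one_iff (N := phi) h').2 (Subgroup.mem_subgroupOf.2 hh),
    one_mul]

theorem pick_fixed {ν : MulAut K} (ho : Odd (orderOf ν)) {x : K} {v : ℕ}
    (hxv : invK allK phiK (code (x : Equiv.Perm GolayPt)) = v)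
    (hv : (ivK.filter fun w => w == v).length ≤ 2) : ((ν x : K) : K ⧸ phi) = x := by
  obtain ⟨tx, htx, hx⟩ := exists_rep x
  obtain ⟨ty, hty, hy⟩ := exists_rep (ν x)
  obtain ⟨tw, htw, hw⟩ := exists_rep (ν (ν x))
  have hIx := (invK_congr hx).trans hxv
  have hIy := (invK_congr hy).trans ((invK_aut ν x).trans hxv)
  have hIw := (invK_congr hw).trans ((invK_aut ν _).trans ((invK_aut ν x).trans hxv))
  set Fl := repK.filter fun t => invK allK phiK t == v with hFl
  have hlen : Fl.length ≤ 2 := by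
    have h2 := hv
    rw [← beq_iff_eq.1 iv_ok, List.filter_map, List.length_map] at h2
    exact h2
  have hm : code (tx : Equiv.Perm GolayPt) ∈ Fl ∧ code (ty : Equiv.Perm GolayPt) ∈ Fl ∧
      code (tw : Equiv.Perm GolayPt) ∈ Fl := by
    simp only [hFl, List.mem_filter, beq_iff_eq]
    exact ⟨⟨htx, hIx⟩, ⟨hty, hIy⟩, ⟨htw, hIw⟩⟩
  have inj : ∀ {a b : K}, code (a : Equiv.Perm GolayPt) = code (b : Equiv.Perm GolayPt) → a = b :=
    fun h => Subtype.ext (code_injective h)
  have hpig : tx = ty ∨ ty = tw ∨ tx = tw := by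
    rcases Fl with _ | ⟨a, _ | ⟨b, _ | ⟨e, l⟩⟩⟩
    · simp at hm
    · simp only [List.mem_singleton] at hm
      exact Or.inl (inj (hm.1.trans hm.2.1.symm))
    · simp only [List.mem_cons, List.not_mem_nil, or_false] at hm
      obtain ⟨h1 | h1, h2 | h2, h3 | h3⟩ := hm <;>
        first
        | exact Or.inl (inj (h1.trans h2.symm))
        | exact Or.inr (Or.inl (inj (h2.trans h3.symm)))
        | exact Or.inr (Or.inr (inj (h1.trans h3.symm)))
    · simp at hlen
  have hdesc : ∀ (α : MulAut K) {a b : K}, (a : K ⧸ phi) = b → ((α a : K) : K ⧸ phi) = α b :=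
    fun α a b hab => by
      rw [QuotientGroup.eq] at hab ⊢
      rw [← map_inv, ← map_mul]
      exact aut_phi α hab
  rcases hpig with e | e | e
  · rw [← hy, ← e, hx]
  · have h1 : ((ν (ν x) : K) : K ⧸ phi) = ν x := by rw [← hw, ← e, hy]
    simpa using hdesc ν⁻¹ h1
  · have h1 : (((ν * ν) x : K) : K ⧸ phi) = x := by rw [MulAut.mul_apply, ← hw, ← e, hx]
    have hpow : ∀ k : ℕ, ((((ν * ν) ^ k) x : K) : K ⧸ phi) = x := by
      intro k
      induction k with
      | zero => simp
      | succ k ih => rw [pow_succ', MulAut.mul_apply, hdesc _ ih, h1]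
    obtain ⟨j, hj⟩ := ho
    have h2 := hpow (j + 1)
    rwa [show (ν * ν) ^ (j + 1) = ν by
      rw [← sq, ← pow_mul, show 2 * (j + 1) = orderOf ν + 1 by omega, pow_succ, pow_orderOf_eq_one,
        one_mul]] at h2

theorem aut_odd {ν : MulAut K} (ho : Odd (orderOf ν)) : ν = 1 := by
  have : Fact (Nat.Prime 2) := ⟨Nat.prime_two⟩
  let H : Subgroup K :=
    MonoidHom.eqLocus ((QuotientGroup.mk' phi).comp ν.toMonoidHom) (QuotientGroup.mk' phi)
  have hgrown : ∀ (l : List ℕ), (∀ i ∈ l, i ∈ picks) → ∀ (L : List ℕ),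
      (∀ a ∈ L, ∃ y : K, code (y : Equiv.Perm GolayPt) = a ∧ y ∈ H) →
      ∀ a ∈ l.foldl (fun L i => grow L (repK.getD i 0)) L,
        ∃ y : K, code (y : Equiv.Perm GolayPt) = a ∧ y ∈ H := by
    intro l
    induction l with
    | nil => exact fun _ L hL => hL
    | cons i l ih =>
      intro hl L hL
      refine ih (fun j hj => hl j (List.mem_cons_of_mem _ hj)) _ fun a ha => ?_
      simp only [grow, List.mem_append, List.mem_map] at ha
      rcases ha with ha | ⟨b, hb, rfl⟩
      · exact hL a ha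
      have hi := List.all_eq_true.1 picks_ok i (hl i List.mem_cons_self)
      simp only [Bool.and_eq_true, Nat.blt, Nat.ble_eq, decide_eq_true_eq] at hi
      have hlen : repK.length = 8 := by
        have := congrArg List.length (beq_iff_eq.1 iv_ok)
        rwa [List.length_map] at this
      have hi' : i < repK.length := hlen ▸ hi.1
      obtain ⟨s, hs, hmem⟩ : ∃ s : K, code (s : Equiv.Perm GolayPt) = repK.getD i 0 ∧
          code (s : Equiv.Perm GolayPt) ∈ repK := by
        have hm : repK.getD i 0 ∈ repK := by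
          rw [List.getD_eq_getElem _ _ hi']; exact List.getElem_mem hi'
        have hsub : ∀ a ∈ repK, a ∈ allK := fun a ha => by
          simpa using List.all_eq_true.1 rep_sub_ok a ha
        obtain ⟨g, hg⟩ := allK_spec.exists_code _ (hsub _ hm)
        have hgm : code g ∈ allK := by rw [hg]; exact hsub _ hm
        refine ⟨⟨g, (allK_spec.mem_iff g).2 hgm⟩, hg, ?_⟩
        show code g ∈ repK
        rw [hg]; exact hm
      have hv : invK allK phiK (code (s : Equiv.Perm GolayPt)) = ivK.getD i 0 := by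
        rw [hs, ← beq_iff_eq.1 iv_ok, List.getD_eq_getElem _ _ hi',
          List.getD_eq_getElem _ _ (by rwa [List.length_map]), List.getElem_map]
      obtain ⟨y, hy, hyH⟩ := hL b hb
      exact ⟨y * s, by rw [Subgroup.coe_mul, code_mul, hy, hs],
        mul_mem hyH (pick_fixed ho hv hi.2)⟩
  have htop : ∀ y : K, y ∈ H := by
    have hbase : ∀ a ∈ phiK, ∃ y : K, code (y : Equiv.Perm GolayPt) = a ∧ y ∈ H := by
      intro a ha
      obtain ⟨g, rfl⟩ := phiK_spec.exists_code a ha
      have hg := (phiK_spec.mem_iff g).2 ha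
      refine ⟨⟨g, grpOf_drop_le _ _ hg⟩, rfl, ?_⟩
      have hmem : (⟨g, grpOf_drop_le _ _ hg⟩ : K) ∈ phi := Subgroup.mem_subgroupOf.2 hg
      show ((ν _ : K) : K ⧸ phi) = ((⟨g, grpOf_drop_le _ _ hg⟩ : K) : K ⧸ phi)
      rw [(QuotientGroup.eq_one_iff _).2 hmem, (QuotientGroup.eq_one_iff _).2 (aut_phi ν hmem)]
    have hle : K ≤ H.map (Subgroup.subtype K) := by
      conv_lhs => rw [grpOf]
      rw [Subgroup.closure_le]
      intro g hg
      obtain ⟨s, hs, hsg⟩ := List.mem_map.1 hg
      have h := List.all_eq_true.1 grown_ok s hs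
      simp only [List.contains_eq_mem, decide_eq_true_eq] at h
      obtain ⟨y, hy, hyH⟩ := hgrown picks (fun _ h => h) phiK hbase _ h
      exact ⟨y, hyH, code_injective (hy.trans hsg)⟩
    intro y
    obtain ⟨y', hy', he⟩ := hle y.2
    rwa [← Subtype.ext (show (y' : Equiv.Perm GolayPt) = y from he)]
  refine PGroup.aut_eq_one_of_trivial_frattini (isPGroup_grpOf (Cert.pcOK_all certM22_check).1)
    (p := 2) (Nat.coprime_two_right.2 ho) fun y => ?_
  have h1 : ((ν y : K) : K ⧸ phi) = y := htop y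
  have h2 : ν y * y⁻¹ ∈ phi := by
    rw [← QuotientGroup.eq_one_iff, QuotientGroup.mk_mul, QuotientGroup.mk_inv, h1, mul_inv_cancel]
  exact Cert.phi_le_frattini certM22_check h2

theorem grp_le : K ≤ Cfsg.Spor.M22 := by
  rw [grpOf, Subgroup.closure_le]
  intro g hg
  obtain ⟨p, hp, hpg⟩ := List.mem_map.1 hg
  obtain ⟨g', hg', hc', -⟩ := certM22_pc p hp
  rwa [code_injective (show code g = code g' by rw [hc', hpg])]

/-- A group of order 898128000 containing `M22` has a simple `2`-fusion system. -/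
theorem isSimple {G : Type*} [Group G] [Finite G] (ψ : Cfsg.Spor.M22 →* G)
    (hinj : Function.Injective ψ) (hcard : Nat.card G = 898128000) (S : Sylow 2 G) :
    (Cfsg.groupFusionSystem (S : Subgroup G)).IsSimple 2 := by
  have : Fact (Nat.Prime 2) := ⟨Nat.prime_two⟩
  let S' : Subgroup G := (Subgroup.subgroupOf K Cfsg.Spor.M22).map ψ
  let e : K ≃* S' := (Subgroup.subgroupOfEquivOfLe grp_le).symm.trans
    (Subgroup.equivMapOfInjective _ ψ hinj)
  have hK : Nat.card S' = 2 ^ 7 := by
    rw [← Nat.card_congr e.toEquiv, allK_spec.card]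
    rfl
  let S₀ : Sylow 2 G := Sylow.ofCard S' (by
    rw [hK, hcard, show (898128000 : ℕ) = 2 ^ 7 * 7016625 by norm_num,
      Nat.factorization_mul (by norm_num) (by norm_num)]
    simp only [Finsupp.coe_add, Pi.add_apply, Nat.prime_two.factorization_pow,
      Finsupp.single_eq_same,
      Nat.factorization_eq_zero_of_not_dvd (show ¬ 2 ∣ 7016625 by norm_num), add_zero])
  refine Fus.TwoSimple.isSimple_of_local S₀ ?_ ?_ ?_ S
  · intro hbot
    have h : Nat.card (S₀ : Subgroup G) = 2 ^ 7 := hK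
    rw [hbot, Subgroup.card_bot] at h
    norm_num at h
  · intro g hg ho x hx
    let f : Subgroup.normalizer (S' : Set G) →* MulAut K :=
      (MulAut.congr e.symm).toMonoidHom.comp S'.normalizerMonoidHom
    have hg' : g ∈ Subgroup.normalizer (S' : Set G) := hg
    have h1 : f ⟨g, hg'⟩ = 1 := aut_odd (Odd.of_dvd_nat
      (by rwa [Subgroup.orderOf_mk]) (orderOf_map_dvd f _))
    have h2 : S'.normalizerMonoidHom ⟨g, hg'⟩ = 1 :=
      (MulAut.congr e.symm).injective (h1.trans (map_one _).symm)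
    exact congrArg (fun σ : MulAut S' => ((σ ⟨x, hx⟩ : S') : G)) h2
  · intro T hTS hT hcl x hx
    let T' : Subgroup Cfsg.Spor.M22 := T.comap ψ
    have hsub : ∀ y ∈ T', (y : Equiv.Perm GolayPt) ∈ K := fun y hy => by
      obtain ⟨y', hy', he⟩ := hTS hy
      rw [← hinj he]
      exact hy'
    have hne : T' ≠ ⊥ := by
      intro h
      refine hT ((Subgroup.eq_bot_iff_forall _).2 fun t ht => ?_)
      obtain ⟨y, -, rfl⟩ := hTS ht
      have hy : y ∈ T' := ht
      rw [h, Subgroup.mem_bot] at hy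
      rw [hy, map_one]
    obtain ⟨y, hy, rfl⟩ := hx
    exact Cert.closed_top certM22_check certM22_conjs hne hsub grp_le
      (fun g z hz hgz => show ψ (g * z * g⁻¹) ∈ T by
        rw [map_mul, map_mul, map_inv]
        refine hcl _ _ hz ?_
        rw [← map_inv, ← map_mul, ← map_mul]
        exact ⟨g * z * g⁻¹, hgz, rfl⟩) y hy

end CfsgLib.Mathieu.Code.McLFusion
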