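import Cfsg.Agent.Mathieu.Classes
import Cfsg.Agent.Mathieu.DataSylTwo

/-!
A Sylow 2-subgroup of `M24` and the fact that it is its own normaliser.
-/

set_option autoImplicit false

open scoped Pointwise

namespace CfsgLib.Mathieu

open Cfsg CfsgLib.Golay

/-- The stabiliser of the two block systems on an octad. -/
abbrev sylTwo : Subgroup (Equiv.Perm GolayPt) :=
  M24 ⊓ MulAction.stabilizer (Equiv.Perm GolayPt) (maskSextet sylPairs) ⊓
    MulAction.stabilizer (Equiv.Perm GolayPt) (maskSextet sylQuads)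

/-- Equality of two masks on the 24 points. -/
def sameMask (a b : ℕ) : Bool := (List.range 24).all fun i => a.testBit i == b.testBit i

theorem sameMask_iff {a b : ℕ} : sameMask a b = true ↔ ofMask a = ofMask b := by
  simp only [sameMask, List.all_eq_true, List.mem_range, beq_iff_eq]
  constructor
  · intro h
    ext p
    rw [mem_ofMask_iff, mem_ofMask_iff, h _ (p2i_lt p)]
  · intro h i hi
    have := Finset.ext_iff.1 h (i2p i)
    rw [mem_ofMask_iff, mem_ofMask_iff, p2i_i2p i hi] at this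
    exact Bool.eq_iff_iff.2 this

/-- A table stabilises a family of masks. -/
def famOK (t F : List ℕ) : Bool :=
  F.all fun a => F.any fun b => sameMask (maskImageF (pk t) a) b

theorem smul_ofMask_F (g : Equiv.Perm GolayPt) (m : ℕ) :
    g • ofMask m = ofMask (maskImageF (pk (toTab g)) m) := by
  rw [smul_ofMask_tab, maskImageF_eq]

theorem famOK_iff (g : Equiv.Perm GolayPt) (F : List ℕ) :
    famOK (toTab g) F = true ↔ g • maskSextet F = maskSextet F := by
  simp only [famOK, List.all_eq_true, List.any_eq_true, sameMask_iff, ← smul_ofMask_F]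
  constructor
  · intro h
    refine Finset.eq_of_subset_of_card_le ?_ (by rw [Finset.card_smul_finset])
    intro s hs
    obtain ⟨t, ht, rfl⟩ := Finset.mem_smul_finset.1 hs
    rw [maskSextet, List.mem_toFinset, List.mem_map] at ht ⊢
    obtain ⟨a, ha, rfl⟩ := ht
    obtain ⟨b, hb, e⟩ := h a ha
    exact ⟨b, hb, e.symm⟩
  · intro h a ha
    have : g • ofMask a ∈ g • maskSextet F := Finset.smul_mem_smul_finset (by
      rw [maskSextet, List.mem_toFinset]; exact List.mem_map.2 ⟨a, ha, rfl⟩)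
    rw [h, maskSextet, List.mem_toFinset, List.mem_map] at this
    obtain ⟨b, hb, e⟩ := this
    exact ⟨b, hb, e.symm⟩

theorem mem_sylTwo_iff {g : Equiv.Perm GolayPt} :
    g ∈ sylTwo ↔ g ∈ M24 ∧ famOK (toTab g) sylPairs = true ∧ famOK (toTab g) sylQuads = true := by
  rw [famOK_iff, famOK_iff]
  simp only [Subgroup.mem_inf, MulAction.mem_stabilizer_iff, and_assoc]

theorem sylTwo_facts :
    sylChain.all (fun l => l.2.1.all fun t => tabInM24 t && famOK t sylPairs && famOK t sylQuads) = true ∧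
    chainOK sylChain = true ∧ chainProd sylChain = 1024 ∧
    sylGens.all (fun t => tabInM24 t && famOK t sylPairs && famOK t sylQuads) = true ∧
    (fixList4F.filter fun t => famOK t sylPairs && famOK t sylQuads).length ≤ 64 := by decide +kernel

/-- The normalising check on the four-point stabiliser. -/
def normCheck (t : List ℕ) (F : List ℕ) : Bool :=
  sylGens.all fun k => F.all fun a => F.any fun b =>
    sameMask (maskImageF (pk k) (maskImageF (pk t) a)) (maskImageF (pk t) b)

theorem norm_facts : fixList4F.all (fun t => !(normCheck t sylPairs && normCheck t sylQuads) ||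
    (famOK t sylPairs && famOK t sylQuads)) = true := by decide +kernel

theorem orbit_facts :
    (List.range 24).all (fun i => [0, 1, 2, 3, 4, 7, 10, 12].contains i ||
      decide (8 < (reach sylGens i 12).length)) = true ∧
    ((List.range 24).all fun i => [0, 1].contains i ||
      (sylGens ++ ((sylChain.drop 1).flatMap fun l => l.2.1)).any fun t =>
        ap (pk t) 0 == 0 && !(ap (pk t) i == i)) = true ∧
    ((List.range 24).all fun i => [0, 1, 2, 3].contains i ||
      decide (2 < (reach ((sylChain.drop 1).flatMap fun l => l.2.1) i 12).length)) = true ∧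
    ((sylChain.drop 1).flatMap fun l => l.2.1).all (fun t => ap (pk t) 0 == 0) = true ∧
    ([0, 1, 2, 3, 4, 7, 10, 12] : List ℕ).all (fun i => (reach sylGens 0 12).contains i) = true ∧
    ([2, 3] : List ℕ).all (fun i => (reach ((sylChain.drop 1).flatMap fun l => l.2.1) 2 12).contains i) = true ∧
    sylPairs.head? = some 3 ∧ sylPairs.getD 1 0 = 12 ∧ sylQuads.getD 0 0 = 15 ∧
      sylQuads.getD 1 0 = 5264 := by decide +kernel

theorem rep_sylGens : ∀ t ∈ sylGens, Rep sylTwo t := by
  intro t ht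
  have h := List.all_eq_true.1 sylTwo_facts.2.2.2.1 t ht
  simp only [Bool.and_eq_true] at h
  obtain ⟨g, hg, rfl⟩ := rep_of_tabInM24 h.1.1
  exact ⟨g, mem_sylTwo_iff.2 ⟨hg, h.1.2, h.2⟩, rfl⟩

theorem rep_sylChain : ∀ l ∈ sylChain, ∀ t ∈ l.2.1, Rep sylTwo t := by
  intro l hl t ht
  have h := List.all_eq_true.1 (List.all_eq_true.1 sylTwo_facts.1 l hl) t ht
  simp only [Bool.and_eq_true] at h
  obtain ⟨g, hg, rfl⟩ := rep_of_tabInM24 h.1.1
  exact ⟨g, mem_sylTwo_iff.2 ⟨hg, h.1.2, h.2⟩, rfl⟩

theorem rep_sylStab : ∀ t ∈ (sylChain.drop 1).flatMap (fun l => l.2.1),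
    Rep (fixPt sylTwo (i2p 0)) t := by
  intro t ht
  have h0 := List.all_eq_true.1 orbit_facts.2.2.2.1 t ht
  rw [List.mem_flatMap] at ht
  obtain ⟨l, hl, htl⟩ := ht
  obtain ⟨g, hg, rfl⟩ := rep_sylChain l (List.mem_of_mem_drop hl) t htl
  rw [beq_iff_eq, ap_toTab g (by norm_num)] at h0
  exact ⟨g, ⟨hg, p2i_injective (h0.trans (p2i_i2p 0 (by norm_num)).symm)⟩, rfl⟩

/-- An element of the group keeps the block containing a point. -/
theorem block_fixed {g : Equiv.Perm GolayPt} {F : List ℕ} (h : famOK (toTab g) F = true)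
    (hdisj : ∀ a ∈ F, ∀ b ∈ F, (ofMask a ∩ ofMask b).Nonempty → ofMask a = ofMask b)
    {a : ℕ} (ha : a ∈ F) {p : GolayPt} (hp : p ∈ ofMask a) (hgp : g p ∈ ofMask a) :
    g • ofMask a = ofMask a := by
  simp only [famOK, List.all_eq_true, List.any_eq_true, sameMask_iff, ← smul_ofMask_F] at h
  obtain ⟨b, hb, e⟩ := h a ha
  rw [e]
  refine hdisj b hb a ha ⟨g p, Finset.mem_inter.2 ⟨?_, hgp⟩⟩
  rw [← e]
  exact Finset.smul_mem_smul_finset hp

theorem disjoint_blocks : ∀ F ∈ [sylPairs, sylQuads], ∀ a ∈ F, ∀ b ∈ F,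
    (ofMask a ∩ ofMask b).Nonempty → ofMask a = ofMask b := by
  intro F hF a ha b hb h
  have hall : [sylPairs, sylQuads].all (fun F => F.all fun a => F.all fun b =>
      a == b || (a &&& b == 0)) = true := by decide +kernel
  have h1 := List.all_eq_true.1 (List.all_eq_true.1 (List.all_eq_true.1 hall F hF) a ha) b hb
  simp only [Bool.or_eq_true, beq_iff_eq] at h1
  rcases h1 with h1 | h1
  · rw [h1]
  · rw [← ofMask_land, h1, ofMask_zero] at h
    exact absurd h Finset.not_nonempty_empty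

theorem block_facts : (3 : ℕ) ∈ sylPairs ∧ 12 ∈ sylPairs ∧ 15 ∈ sylQuads ∧
    [(i2p 1, i2p 0), (i2p 0, i2p 1), (i2p 3, i2p 2)].length = 3 ∧
    ofMask 3 = {i2p 0, i2p 1} ∧ ofMask 12 = {i2p 2, i2p 3} ∧
    ofMask 15 = {i2p 0, i2p 1, i2p 2, i2p 3} ∧ ofMask (15 ||| 5264) = ofMask 5279 := by
  decide +kernel

theorem fix_one {g : Equiv.Perm GolayPt} (hg : g ∈ sylTwo) (h0 : g (i2p 0) = i2p 0) :
    g (i2p 1) = i2p 1 := by
  obtain ⟨hb, -, -, -, h3, -⟩ := block_facts
  have h := block_fixed (mem_sylTwo_iff.1 hg).2.1 (disjoint_blocks _ List.mem_cons_self) hb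
    (p := i2p 0) (by rw [h3]; simp) (by rw [h3, h0]; simp)
  have hm : g (i2p 1) ∈ g • ofMask 3 := Finset.smul_mem_smul_finset (by rw [h3]; simp)
  rw [h, h3, Finset.mem_insert, Finset.mem_singleton] at hm
  exact hm.resolve_left fun e => absurd (g.injective (e.trans h0.symm)) (by decide)

theorem fix_three {g : Equiv.Perm GolayPt} (hg : g ∈ sylTwo) (h2 : g (i2p 2) = i2p 2) :
    g (i2p 3) = i2p 3 := by
  obtain ⟨-, hb, -, -, -, h3, -⟩ := block_facts
  have h := block_fixed (mem_sylTwo_iff.1 hg).2.1 (disjoint_blocks _ List.mem_cons_self) hb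
    (p := i2p 2) (by rw [h3]; simp) (by rw [h3, h2]; simp)
  have hm : g (i2p 3) ∈ g • ofMask 12 := Finset.smul_mem_smul_finset (by rw [h3]; simp)
  rw [h, h3, Finset.mem_insert, Finset.mem_singleton] at hm
  exact hm.resolve_left fun e => absurd (g.injective (e.trans h2.symm)) (by decide)

theorem image_two {g : Equiv.Perm GolayPt} (hg : g ∈ sylTwo) (h0 : g (i2p 0) = i2p 0) :
    g (i2p 2) ∈ ({i2p 2, i2p 3} : Finset GolayPt) := by
  obtain ⟨-, -, hb, -, -, -, h3, -⟩ := block_facts
  have h := block_fixed (mem_sylTwo_iff.1 hg).2.2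
    (disjoint_blocks _ (List.mem_cons_of_mem _ List.mem_cons_self)) hb
    (p := i2p 0) (by rw [h3]; simp) (by rw [h3, h0]; simp)
  have hm : g (i2p 2) ∈ g • ofMask 15 := Finset.smul_mem_smul_finset (by rw [h3]; simp)
  rw [h, h3] at hm
  have h1 := fix_one hg h0
  simp only [Finset.mem_insert, Finset.mem_singleton] at hm ⊢
  rcases hm with e | e | e | e
  · exact absurd (g.injective (e.trans h0.symm)) (by decide)
  · exact absurd (g.injective (e.trans h1.symm)) (by decide)
  · exact Or.inl e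
  · exact Or.inr e

theorem image_zero {g : Equiv.Perm GolayPt} (hg : g ∈ sylTwo) :
    g (i2p 0) ∈ ofMask 5279 := by
  obtain ⟨-, -, hb, -, -, -, h3, hO⟩ := block_facts
  obtain ⟨-, -, hq⟩ := mem_sylTwo_iff.1 hg
  simp only [famOK, List.all_eq_true, List.any_eq_true, sameMask_iff, ← smul_ofMask_F] at hq
  obtain ⟨b, hb', e⟩ := hq 15 hb
  have hm : g (i2p 0) ∈ g • ofMask 15 := Finset.smul_mem_smul_finset (by rw [h3]; simp)
  rw [e] at hm
  have hor : sylQuads.all (fun b => b == 15 || b == 5264) = true := by decide +kernel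
  have hb'' := List.all_eq_true.1 hor b hb'
  simp only [Bool.or_eq_true, beq_iff_eq] at hb''
  rw [← hO, ofMask_lor, Finset.mem_union]
  rcases hb'' with rfl | rfl
  · exact Or.inl hm
  · exact Or.inr hm

theorem card_sylTwo : Nat.card sylTwo = 1024 := by
  refine le_antisymm ?_ (sylTwo_facts.2.2.1 ▸
    chainProd_le_card sylChain sylTwo rep_sylChain sylTwo_facts.2.1)
  classical
  have h0 : (orbSet sylTwo (i2p 0)).ncard ≤ 8 := by
    refine (Set.ncard_le_ncard (t := ↑(ofMask 5279)) ?_).trans ?_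
    · rintro _ ⟨g, hg, rfl⟩
      exact image_zero hg
    · rw [Set.ncard_coe_finset, ← pop_eq_card]; decide +kernel
  have h2 : (orbSet (fixPt sylTwo (i2p 0)) (i2p 2)).ncard ≤ 2 := by
    refine (Set.ncard_le_ncard (t := ↑({i2p 2, i2p 3} : Finset GolayPt)) ?_).trans ?_
    · rintro _ ⟨g, hg, rfl⟩
      exact image_two hg.1 hg.2
    · rw [Set.ncard_coe_finset]; exact Finset.card_le_two
  have h4 : Nat.card (fixPt (fixPt sylTwo (i2p 0)) (i2p 2)) ≤ 64 := by
    set L := fixList4F.filter fun t => famOK t sylPairs && famOK t sylQuads with hL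
    have hmem : ∀ g : fixPt (fixPt sylTwo (i2p 0)) (i2p 2),
        toTab (g : Equiv.Perm GolayPt) ∈ L.toFinset := by
      intro g
      obtain ⟨hM, hp, hq⟩ := mem_sylTwo_iff.1 g.2.1.1
      rw [List.mem_toFinset, hL, List.mem_filter, fixList4F_eq, hp, hq]
      refine ⟨toTab_mem_fixList4 (mem_base7Fix.2 ⟨hM, fun b hb => ?_⟩), rfl⟩
      have hb' : b ∈ [0, 1, 2, 3] := by simpa [base7] using hb
      simp only [List.mem_cons, List.not_mem_nil, or_false] at hb'
      rcases hb' with rfl | rfl | rfl | rfl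
      · exact g.2.1.2
      · exact fix_one g.2.1.1 g.2.1.2
      · exact g.2.2
      · exact fix_three g.2.1.1 g.2.2
    have h := Nat.card_le_card_of_injective
      (fun g : fixPt (fixPt sylTwo (i2p 0)) (i2p 2) => (⟨_, hmem g⟩ : L.toFinset))
      (fun a b e => Subtype.ext (toTab_injective (congrArg Subtype.val e)))
    rw [Nat.card_eq_finsetCard] at h
    exact h.trans ((List.toFinset_card_le _).trans sylTwo_facts.2.2.2.2)
  rw [card_eq_orbSet_mul sylTwo (i2p 0), card_eq_orbSet_mul (fixPt sylTwo (i2p 0)) (i2p 2)]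
  exact (Nat.mul_le_mul h0 (Nat.mul_le_mul h2 h4)).trans (by norm_num)

theorem reach_le_orbSet {H : Subgroup (Equiv.Perm GolayPt)} {gs : List (List ℕ)}
    (hgs : ∀ t ∈ gs, Rep H t) {i : ℕ} (hi : i < 24) :
    (reach gs i 12).length ≤ (orbSet H (i2p i)).ncard :=
  orbit_ncard_ge H gs hgs i hi 12

/-- A permutation normalising the subgroup and lying in `M24` lies in the subgroup. -/
theorem mem_sylTwo_of_normalizes {x : Equiv.Perm GolayPt} (hx : x ∈ M24)
    (hn : ∀ k, k ∈ sylTwo ↔ x * k * x⁻¹ ∈ sylTwo) : x ∈ sylTwo := by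
  classical
  have horbConj : ∀ (y : Equiv.Perm GolayPt) (H : Subgroup (Equiv.Perm GolayPt)) (p : GolayPt),
      (∀ k, k ∈ H ↔ y * k * y⁻¹ ∈ H) → orbSet H (y p) = (fun q => y q) '' orbSet H p := by
    intro y H p hy
    ext q
    constructor
    · rintro ⟨k, hk, rfl⟩
      refine ⟨(y⁻¹ * k * y) p, ⟨_, (hy _).2 ?_, rfl⟩, by simp⟩
      rwa [show y * (y⁻¹ * k * y) * y⁻¹ = k by group]
    · rintro ⟨_, ⟨k, hk, rfl⟩, rfl⟩
      exact ⟨y * k * y⁻¹, (hy k).1 hk, by simp⟩
  -- first adjustment: fix 0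
  have hx0 : p2i (x (i2p 0)) ∈ [0, 1, 2, 3, 4, 7, 10, 12] := by
    by_contra hc
    have h := List.all_eq_true.1 orbit_facts.1 _ (List.mem_range.2 (p2i_lt (x (i2p 0))))
    simp only [Bool.or_eq_true, List.contains_eq_mem, decide_eq_true_eq] at h
    have h8 := (h.resolve_left hc).trans_le (reach_le_orbSet rep_sylGens (p2i_lt _))
    rw [i2p_p2i, horbConj x sylTwo (i2p 0) hn, Set.ncard_image_of_injective _ x.injective] at h8
    have h0 : (orbSet sylTwo (i2p 0)).ncard ≤ 8 := by
      refine (Set.ncard_le_ncard (t := ↑(ofMask 5279)) ?_).trans ?_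
      · rintro _ ⟨g, hg, rfl⟩
        exact image_zero hg
      · rw [Set.ncard_coe_finset, ← pop_eq_card]; decide +kernel
    omega
  obtain ⟨s, hs, hs0⟩ : ∃ s ∈ sylTwo, s (i2p 0) = x (i2p 0) := by
    refine exists_map_of_reach rep_sylGens (by norm_num) ?_
    have := List.all_eq_true.1 orbit_facts.2.2.2.2.1 _ hx0
    simpa using this
  set y := s⁻¹ * x with hy
  have hyM : y ∈ M24 := M24.mul_mem (M24.inv_mem (mem_sylTwo_iff.1 hs).1) hx
  have hnormMul : ∀ (u z : Equiv.Perm GolayPt), u ∈ sylTwo →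
      (∀ k, k ∈ sylTwo ↔ z * k * z⁻¹ ∈ sylTwo) →
      ∀ k, k ∈ sylTwo ↔ (u⁻¹ * z) * k * (u⁻¹ * z)⁻¹ ∈ sylTwo := by
    intro u z hu hz k
    rw [hz k, show u⁻¹ * z * k * (u⁻¹ * z)⁻¹ = u⁻¹ * (z * k * z⁻¹) * u by group,
      Subgroup.mul_mem_cancel_right _ hu, Subgroup.mul_mem_cancel_left _ (sylTwo.inv_mem hu)]
  have hny := hnormMul s x hs hn
  rw [← hy] at hny
  have hy0 : y (i2p 0) = i2p 0 := by
    rw [hy, Equiv.Perm.mul_apply, ← hs0, Equiv.Perm.coe_inv, Equiv.symm_apply_apply]
  have hstab : ∀ k, k ∈ fixPt sylTwo (i2p 0) ↔ y * k * y⁻¹ ∈ fixPt sylTwo (i2p 0) := fun k => by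
    show k ∈ sylTwo ∧ k • i2p 0 = i2p 0 ↔ y * k * y⁻¹ ∈ sylTwo ∧ (y * k * y⁻¹) • i2p 0 = i2p 0
    rw [← hny k, conj_fix_iff y k (i2p 0) (i2p 0) hy0]
  -- the second point
  have hy1 : y (i2p 1) = i2p 1 := by
    have h := List.all_eq_true.1 orbit_facts.2.1 _ (List.mem_range.2 (p2i_lt (y (i2p 1))))
    simp only [Bool.or_eq_true, List.contains_eq_mem, decide_eq_true_eq, List.any_eq_true] at h
    rcases h with h | ⟨t, ht, h⟩
    · simp only [List.mem_cons, List.not_mem_nil, or_false] at h
      rcases h with h | h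
      · exact absurd (y.injective ((p2i_injective
          (h.trans (p2i_i2p 0 (by norm_num)).symm)).trans hy0.symm)) (by decide)
      · exact p2i_injective (h.trans (p2i_i2p 1 (by norm_num)).symm)
    · exfalso
      obtain ⟨k, hk, rfl⟩ : Rep sylTwo t := by
        rcases List.mem_append.1 ht with ht | ht
        · exact rep_sylGens t ht
        · obtain ⟨k, hk, e⟩ := rep_sylStab t ht
          exact ⟨k, hk.1, e⟩
      rw [ap_toTab k (by norm_num), ap_toTab'] at h
      simp only [Bool.and_eq_true, beq_iff_eq, Bool.not_eq_true', beq_eq_false_iff_ne] at h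
      have hk0 : k (i2p 0) = i2p 0 := p2i_injective (h.1.trans (p2i_i2p 0 (by norm_num)).symm)
      apply h.2
      have hc : y⁻¹ * k * y ∈ fixPt sylTwo (i2p 0) := by
        rw [hstab, show y * (y⁻¹ * k * y) * y⁻¹ = k by group]
        exact ⟨hk, hk0⟩
      have e : y⁻¹ (k (y (i2p 1))) = i2p 1 := fix_one hc.1 hc.2
      rw [Equiv.Perm.inv_eq_iff_eq] at e
      rw [e]
  -- the third point
  have hy2 : p2i (y (i2p 2)) ∈ [2, 3] := by
    by_contra hc
    have h := List.all_eq_true.1 orbit_facts.2.2.1 _ (List.mem_range.2 (p2i_lt (y (i2p 2))))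
    simp only [Bool.or_eq_true, List.contains_eq_mem, decide_eq_true_eq] at h
    have hnot : p2i (y (i2p 2)) ∉ [0, 1, 2, 3] := by
      intro hm
      simp only [List.mem_cons, List.not_mem_nil, or_false] at hm hc
      rcases hm with hm | hm | hm | hm
      · exact absurd (y.injective ((p2i_injective
          (hm.trans (p2i_i2p 0 (by norm_num)).symm)).trans hy0.symm)) (by decide)
      · exact absurd (y.injective ((p2i_injective
          (hm.trans (p2i_i2p 1 (by norm_num)).symm)).trans hy1.symm)) (by decide)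
      · exact hc (Or.inl hm)
      · exact hc (Or.inr hm)
    have h3 := (h.resolve_left hnot).trans_le (reach_le_orbSet rep_sylStab (p2i_lt _))
    rw [i2p_p2i, horbConj y _ (i2p 2) hstab, Set.ncard_image_of_injective _ y.injective] at h3
    have h2 : (orbSet (fixPt sylTwo (i2p 0)) (i2p 2)).ncard ≤ 2 := by
      refine (Set.ncard_le_ncard (t := ↑({i2p 2, i2p 3} : Finset GolayPt)) ?_).trans ?_
      · rintro _ ⟨g, hg, rfl⟩
        exact image_two hg.1 hg.2
      · rw [Set.ncard_coe_finset]; exact Finset.card_le_two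
    omega
  obtain ⟨u, hu, hu2⟩ : ∃ u ∈ fixPt sylTwo (i2p 0), u (i2p 2) = y (i2p 2) := by
    refine exists_map_of_reach rep_sylStab (by norm_num) ?_
    have := List.all_eq_true.1 orbit_facts.2.2.2.2.2.1 _ hy2
    simpa using this
  set z := u⁻¹ * y with hz
  have hzM : z ∈ M24 := M24.mul_mem (M24.inv_mem (mem_sylTwo_iff.1 hu.1).1) hyM
  have hnz := hnormMul u y hu.1 hny
  rw [← hz] at hnz
  have hz0 : z (i2p 0) = i2p 0 := by
    rw [hz, Equiv.Perm.mul_apply, hy0, Equiv.Perm.inv_eq_iff_eq]; exact hu.2.symm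
  have hz1 : z (i2p 1) = i2p 1 := by
    rw [hz, Equiv.Perm.mul_apply, hy1, Equiv.Perm.inv_eq_iff_eq]
    exact (fix_one hu.1 hu.2).symm
  have hz2 : z (i2p 2) = i2p 2 := by
    rw [hz, Equiv.Perm.mul_apply, ← hu2, Equiv.Perm.coe_inv, Equiv.symm_apply_apply]
  -- the stabiliser of 0 and 2 fixes 3, and only 3 besides 0, 1, 2
  have hz3 : z (i2p 3) = i2p 3 := by
    have h3 : p2i (z (i2p 3)) ∈ [2, 3] := by
      by_contra hc
      have h := List.all_eq_true.1 orbit_facts.2.2.1 _ (List.mem_range.2 (p2i_lt (z (i2p 3))))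
      simp only [Bool.or_eq_true, List.contains_eq_mem, decide_eq_true_eq] at h
      have hnot : p2i (z (i2p 3)) ∉ [0, 1, 2, 3] := by
        intro hm
        simp only [List.mem_cons, List.not_mem_nil, or_false] at hm hc
        rcases hm with hm | hm | hm | hm
        · exact absurd (z.injective ((p2i_injective
            (hm.trans (p2i_i2p 0 (by norm_num)).symm)).trans hz0.symm)) (by decide)
        · exact absurd (z.injective ((p2i_injective
            (hm.trans (p2i_i2p 1 (by norm_num)).symm)).trans hz1.symm)) (by decide)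
        · exact hc (Or.inl hm)
        · exact hc (Or.inr hm)
      have h4 := (h.resolve_left hnot).trans_le (reach_le_orbSet rep_sylStab (p2i_lt _))
      have hstabz : ∀ k, k ∈ fixPt sylTwo (i2p 0) ↔ z * k * z⁻¹ ∈ fixPt sylTwo (i2p 0) :=
        fun k => by
          show k ∈ sylTwo ∧ k • i2p 0 = i2p 0 ↔
            z * k * z⁻¹ ∈ sylTwo ∧ (z * k * z⁻¹) • i2p 0 = i2p 0
          rw [← hnz k, conj_fix_iff z k (i2p 0) (i2p 0) hz0]
      rw [i2p_p2i, horbConj z _ (i2p 3) hstabz, Set.ncard_image_of_injective _ z.injective] at h4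
      have h2 : (orbSet (fixPt sylTwo (i2p 0)) (i2p 3)).ncard ≤ 2 := by
        have hsub : orbSet (fixPt sylTwo (i2p 0)) (i2p 3) ⊆
            ↑({i2p 2, i2p 3} : Finset GolayPt) := by
          rintro _ ⟨g, hg, rfl⟩
          obtain ⟨-, hb, -, -, -, h12, -⟩ := block_facts
          have h2' := image_two hg.1 hg.2
          have hblock := block_fixed (mem_sylTwo_iff.1 hg.1).2.1
            (disjoint_blocks _ List.mem_cons_self) hb (p := i2p 2) (by rw [h12]; simp)
            (by rw [h12]; exact h2')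
          have hm : g (i2p 3) ∈ g • ofMask 12 := Finset.smul_mem_smul_finset (by rw [h12]; simp)
          rw [hblock, h12] at hm
          exact hm
        refine (Set.ncard_le_ncard hsub).trans ?_
        rw [Set.ncard_coe_finset]; exact Finset.card_le_two
      omega
    simp only [List.mem_cons, List.not_mem_nil, or_false] at h3
    rcases h3 with h3 | h3
    · exact absurd (z.injective ((p2i_injective
        (h3.trans (p2i_i2p 2 (by norm_num)).symm)).trans hz2.symm)) (by decide)
    · exact p2i_injective (h3.trans (p2i_i2p 3 (by norm_num)).symm)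
  have hmem : toTab z ∈ fixList4F := by
    rw [fixList4F_eq]
    refine toTab_mem_fixList4 (mem_base7Fix.2 ⟨hzM, fun b hb => ?_⟩)
    have hb' : b ∈ [0, 1, 2, 3] := by simpa [base7] using hb
    simp only [List.mem_cons, List.not_mem_nil, or_false] at hb'
    rcases hb' with rfl | rfl | rfl | rfl
    exacts [hz0, hz1, hz2, hz3]
  have hcheck : ∀ F, (∀ k ∈ sylTwo, k • maskSextet F = maskSextet F) →
      normCheck (toTab z) F = true := by
    intro F hF
    simp only [normCheck, List.all_eq_true, List.any_eq_true, sameMask_iff, ← smul_ofMask_F]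
    intro t ht a ha
    obtain ⟨k, hk, rfl⟩ := rep_sylGens t ht
    have hk' : z⁻¹ * k * z ∈ sylTwo := by
      rw [hnz, show z * (z⁻¹ * k * z) * z⁻¹ = k by group]; exact hk
    have h := (famOK_iff _ F).2 (hF _ hk')
    simp only [famOK, List.all_eq_true, List.any_eq_true, sameMask_iff, ← smul_ofMask_F] at h
    obtain ⟨b, hb, e⟩ := h a ha
    refine ⟨b, hb, ?_⟩
    rw [← smul_ofMask_F k (maskImageF (pk (toTab z)) a), ← smul_ofMask_F z a, ← e, smul_smul, smul_smul, show z * (z⁻¹ * k * z) = k * z by group]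
  have hres := List.all_eq_true.1 norm_facts _ hmem
  rw [hcheck sylPairs fun k hk => MulAction.mem_stabilizer_iff.1 (Subgroup.mem_inf.1 (Subgroup.mem_inf.1 hk).1).2,
    hcheck sylQuads fun k hk => MulAction.mem_stabilizer_iff.1 (Subgroup.mem_inf.1 hk).2] at hres
  simp only [Bool.and_self, Bool.not_true, Bool.false_or, Bool.and_eq_true] at hres
  have hzS : z ∈ sylTwo := mem_sylTwo_iff.2 ⟨hzM, hres.1, hres.2⟩
  have : x = s * (u * z) := by rw [hz, hy]; group
  rw [this]
  exact sylTwo.mul_mem hs (sylTwo.mul_mem hu.1 hzS)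

theorem normalizer_sylow_two (S : Sylow 2 M24) :
    Subgroup.normalizer ((S : Subgroup M24) : Set M24) = (S : Subgroup M24) := by
  classical
  haveI : Fact (Nat.Prime 2) := ⟨Nat.prime_two⟩
  set K := sylTwo.subgroupOf M24 with hK
  have hKcard : Nat.card K = 1024 := by
    rw [hK, Nat.card_congr (Subgroup.subgroupOfEquivOfLe
      (inf_le_left.trans inf_le_left : sylTwo ≤ M24)).toEquiv, card_sylTwo]
  obtain ⟨P, hP⟩ := (IsPGroup.of_card (n := 10) (by rw [hKcard]; norm_num) :
    IsPGroup 2 K).exists_le_sylow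
  have hPcard : Nat.card P = 1024 := by
    rw [P.card_eq_multiplicity, card_M24, show 244823040 = 2 ^ 10 * 239085 by norm_num,
      Nat.factorization_mul (by norm_num) (by norm_num), Finsupp.add_apply,
      Nat.factorization_eq_zero_of_not_dvd (show ¬ 2 ∣ 239085 by norm_num),
      Nat.Prime.factorization_pow Nat.prime_two, Finsupp.single_eq_same]
    norm_num
  have hPK : (P : Subgroup M24) = K :=
    (Subgroup.eq_of_le_of_card_ge hP (by rw [hKcard]; exact hPcard.le)).symm
  have hbase : Subgroup.normalizer ((P : Subgroup M24) : Set M24) = (P : Subgroup M24) := by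
    refine le_antisymm (fun x hx => ?_) Subgroup.le_normalizer
    rw [hPK] at hx ⊢
    refine mem_sylTwo_of_normalizes x.2 fun k => ?_
    constructor
    · intro hk
      have := (Subgroup.mem_normalizer_iff.1 hx ⟨k, (mem_sylTwo_iff.1 hk).1⟩).1 hk
      exact this
    · intro hk
      have hkM : k ∈ M24 := (conj_mem_M24_iff x.2).1 (mem_sylTwo_iff.1 hk).1
      exact (Subgroup.mem_normalizer_iff.1 hx ⟨k, hkM⟩).2 hk
  obtain ⟨g, rfl⟩ := MulAction.exists_smul_eq M24 P S
  rw [Sylow.coe_subgroup_smul, Subgroup.pointwise_smul_def]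
  have h2 := Subgroup.map_equiv_normalizer_eq (P : Subgroup M24) (MulAut.conj g)
  rw [hbase] at h2
  exact h2.symm

end CfsgLib.Mathieu
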